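import Mathlib.Topology.JacobsonSpace
import Mathlib.Topology.Spectral.Prespectral
import Mathlib.Topology.Constructible
import Mathlib.Topology.Separation.Basic

/-! Jacobson spaces and constructible sets. -/

set_option autoImplicit false
set_option linter.unusedVariables false
set_option linter.unusedSectionVars false
set_option linter.style.haveILetI false

universe u v

open Set Topology TopologicalSpace

namespace Groth.Agent.PtTop50

variable {X : Type u} [TopologicalSpace X]

theorem exists_not_isClosed_isLocallyClosed [T0Space X] [PrespectralSpace X]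
    (hX : ¬ JacobsonSpace X) :
    ∃ x : X, ¬ IsClosed ({x} : Set X) ∧ IsLocallyClosed ({x} : Set X) := by
  rw [jacobsonSpace_iff_locallyClosed] at hX
  push Not at hX
  obtain ⟨Z, ⟨z, hz⟩, hZ, hempty⟩ := hX
  obtain ⟨U, F, hU, hF, rfl⟩ := hZ
  obtain ⟨V, ⟨hVo, hVc⟩, hzV, hVU⟩ :=
    (PrespectralSpace.isTopologicalBasis (X := X)).exists_subset_of_mem_open hz.1 hU
  have hWc : IsCompact (V ∩ F) := hVc.inter_right hF
  have : CompactSpace ↥(V ∩ F) := isCompact_iff_compactSpace.1 hWc
  obtain ⟨⟨x, hx⟩, -, hxcl⟩ := (isClosed_univ (X := ↥(V ∩ F))).exists_closed_singleton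
    ⟨⟨z, hzV, hz.2⟩, trivial⟩
  refine ⟨x, fun h => eq_empty_iff_forall_notMem.1 hempty x ⟨⟨hVU hx.1, hx.2⟩, h⟩, ?_⟩
  have h1 := hxcl.isLocallyClosed.image (f := Subtype.val) IsInducing.subtypeVal
    (by simpa using hVo.isLocallyClosed.inter hF.isLocallyClosed)
  simpa using h1

theorem jacobsonSpace_iUnion [JacobsonSpace X] {ι : Type v} (T : ι → Set X)
    (hT : ∀ i, IsLocallyClosed (T i)) :
    JacobsonSpace ↥(⋃ i, T i) ∧
      closedPoints ↥(⋃ i, T i) ⊆ (Subtype.val : ↥(⋃ i, T i) → X) ⁻¹' closedPoints X := by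
  constructor
  · rw [jacobsonSpace_iff_locallyClosed]
    rintro Z ⟨z, hz⟩ ⟨U, F, hU, hF, rfl⟩
    obtain ⟨U', hU', rfl⟩ := isOpen_induced_iff.1 hU
    obtain ⟨F', hF', rfl⟩ := isClosed_induced_iff.1 hF
    obtain ⟨i, hi⟩ := mem_iUnion.1 z.2
    obtain ⟨x, ⟨hxT, hxU, hxF⟩, hx⟩ := nonempty_inter_closedPoints (Z := T i ∩ (U' ∩ F'))
      ⟨z.1, hi, hz.1, hz.2⟩ ((hT i).inter (hU'.isLocallyClosed.inter hF'.isLocallyClosed))
    exact ⟨⟨x, mem_iUnion.2 ⟨i, hxT⟩⟩, ⟨hxU, hxF⟩,
      preimage_closedPoints_subset Subtype.val_injective continuous_subtype_val hx⟩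
  · rintro ⟨x, hx⟩ hxc
    obtain ⟨i, hi⟩ := mem_iUnion.1 hx
    obtain ⟨F, hF, hFe⟩ := isClosed_induced_iff.1 (hxc : IsClosed _)
    have h1 : ({x} : Set X) = T i ∩ F := by
      ext y
      constructor
      · rintro rfl
        exact ⟨hi, (hFe.symm ▸ mem_singleton _ : (⟨y, hx⟩ : ↥(⋃ i, T i)) ∈ Subtype.val ⁻¹' F)⟩
      · rintro ⟨hyT, hyF⟩
        have : (⟨y, mem_iUnion.2 ⟨i, hyT⟩⟩ : ↥(⋃ i, T i)) ∈ ({⟨x, hx⟩} : Set _) := hFe ▸ hyF
        exact congrArg Subtype.val this
    exact isClosed_singleton_of_isLocallyClosed_singleton (h1 ▸ (hT i).inter hF.isLocallyClosed)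

theorem exists_closedPoint_of_isConstructible [JacobsonSpace X] {E : Set X} (hE : IsConstructible E)
    (hne : E.Nonempty) : (E ∩ closedPoints X).Nonempty := by
  have key : ∀ E : Set X, IsConstructible E →
      ∀ x ∈ E, ∃ W, IsLocallyClosed W ∧ x ∈ W ∧ W ⊆ E := by
    intro E hE
    have h2 : ∀ E : Set X, IsConstructible E →
        (∀ x ∈ E, ∃ W, IsLocallyClosed W ∧ x ∈ W ∧ W ⊆ E) ∧
          (∀ x ∈ Eᶜ, ∃ W, IsLocallyClosed W ∧ x ∈ W ∧ W ⊆ Eᶜ) := by
      intro E hE
      induction hE using IsConstructible.empty_union_induction with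
      | open_retrocompact U ho hc =>
        exact ⟨fun x hx => ⟨U, ho.isLocallyClosed, hx, Subset.rfl⟩,
          fun x hx => ⟨Uᶜ, ho.isClosed_compl.isLocallyClosed, hx, Subset.rfl⟩⟩
      | union s hs t ht h1 h2 =>
        refine ⟨?_, ?_⟩
        · rintro x (hx | hx)
          · obtain ⟨W, hW, hxW, hsub⟩ := h1.1 x hx
            exact ⟨W, hW, hxW, hsub.trans subset_union_left⟩
          · obtain ⟨W, hW, hxW, hsub⟩ := h2.1 x hx
            exact ⟨W, hW, hxW, hsub.trans subset_union_right⟩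
        · intro x hx
          rw [compl_union] at hx ⊢
          obtain ⟨W, hW, hxW, hsub⟩ := h1.2 x hx.1
          obtain ⟨W', hW', hxW', hsub'⟩ := h2.2 x hx.2
          exact ⟨W ∩ W', hW.inter hW', ⟨hxW, hxW'⟩, inter_subset_inter hsub hsub'⟩
      | compl s hs h => exact ⟨h.2, by rw [compl_compl]; exact h.1⟩
    exact (h2 E hE).1
  obtain ⟨x, hx⟩ := hne
  obtain ⟨W, hW, hxW, hsub⟩ := key E hE x hx
  obtain ⟨y, hy, hy'⟩ := nonempty_inter_closedPoints ⟨x, hxW⟩ hW
  exact ⟨y, hsub hy, hy'⟩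

/-- In a Jacobson space, an open set is covered by opens as soon as its closed points are. -/
theorem subset_of_closedPoints_subset [JacobsonSpace X] {U V : Set X} (hU : IsLocallyClosed U)
    (hV : IsOpen V) (h : U ∩ closedPoints X ⊆ V) : U ⊆ V := by
  intro x hx
  by_contra hxV
  obtain ⟨y, ⟨hyU, hyV⟩, hy⟩ := nonempty_inter_closedPoints (Z := U ∩ Vᶜ) ⟨x, hx, hxV⟩
    (hU.inter hV.isClosed_compl.isLocallyClosed)
  exact hyV (h ⟨hyU, hy⟩)

theorem isCompact_iff_preimage_closedPoints [JacobsonSpace X] {U : Set X} (hU : IsOpen U) :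
    IsCompact U ↔ IsCompact ((Subtype.val : closedPoints X → X) ⁻¹' U) := by
  rw [IsInducing.subtypeVal.isCompact_iff, image_preimage_eq_inter_range, Subtype.range_coe]
  refine ⟨fun h => isCompact_of_finite_subcover fun {ι} W hW hsub => ?_,
    fun h => isCompact_of_finite_subcover fun {ι} W hW hsub => ?_⟩
  · obtain ⟨t, ht⟩ := h.elim_finite_subcover W hW
      (subset_of_closedPoints_subset hU.isLocallyClosed (isOpen_iUnion hW) hsub)
    exact ⟨t, inter_subset_left.trans ht⟩
  · obtain ⟨t, ht⟩ := h.elim_finite_subcover W hW (inter_subset_left.trans hsub)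
    exact ⟨t, subset_of_closedPoints_subset hU.isLocallyClosed (isOpen_biUnion fun i _ => hW i) ht⟩

theorem isRetrocompact_iff_preimage_closedPoints [JacobsonSpace X] {U : Set X} (hU : IsOpen U) :
    IsRetrocompact U ↔ IsRetrocompact ((Subtype.val : closedPoints X → X) ⁻¹' U) := by
  refine ⟨fun h V hVc hVo => ?_, fun h V hVc hVo => ?_⟩
  · obtain ⟨V', hV', rfl⟩ := isOpen_induced_iff.1 hVo
    rw [← preimage_inter, ← isCompact_iff_preimage_closedPoints (hU.inter hV')]
    exact h ((isCompact_iff_preimage_closedPoints hV').2 hVc) hV'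
  · rw [isCompact_iff_preimage_closedPoints (hU.inter hVo), preimage_inter]
    exact h ((isCompact_iff_preimage_closedPoints hVo).1 hVc) (hVo.preimage continuous_subtype_val)

theorem isConstructible_preimage_closedPoints [JacobsonSpace X] {E : Set X}
    (hE : IsConstructible E) :
    IsConstructible ((Subtype.val : closedPoints X → X) ⁻¹' E) := by
  induction hE using IsConstructible.empty_union_induction with
  | open_retrocompact U ho hc =>
    exact ((isRetrocompact_iff_preimage_closedPoints ho).1 hc).isConstructible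
      (ho.preimage continuous_subtype_val)
  | union s hs t ht h1 h2 => exact h1.union h2
  | compl s hs h => exact isConstructible_compl.2 h

theorem constructible_subset_iff [JacobsonSpace X] {E E' : Set X} (hE : IsConstructible E)
    (hE' : IsConstructible E') :
    ((Subtype.val : closedPoints X → X) ⁻¹' E ⊆ Subtype.val ⁻¹' E' ↔ E ⊆ E') := by
  refine ⟨fun h x hx => ?_, fun h => preimage_mono h⟩
  by_contra hx'
  obtain ⟨y, ⟨hy, hy'⟩, hyc⟩ :=
    exists_closedPoint_of_isConstructible (hE.sdiff hE') ⟨x, hx, hx'⟩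
  exact hy' (h (a := ⟨y, hyc⟩) hy)

theorem exists_constructible_preimage [JacobsonSpace X] (F : Set (closedPoints X))
    (hF : IsConstructible F) :
    ∃ E : Set X, IsConstructible E ∧ (Subtype.val : closedPoints X → X) ⁻¹' E = F := by
  induction hF using IsConstructible.empty_union_induction with
  | open_retrocompact U ho hc =>
    obtain ⟨U', hU', rfl⟩ := isOpen_induced_iff.1 ho
    exact ⟨U', ((isRetrocompact_iff_preimage_closedPoints hU').2 hc).isConstructible hU', rfl⟩
  | union s hs t ht h1 h2 =>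
    obtain ⟨A, hA, rfl⟩ := h1
    obtain ⟨B, hB, rfl⟩ := h2
    exact ⟨A ∪ B, hA.union hB, rfl⟩
  | compl s hs h =>
    obtain ⟨A, hA, rfl⟩ := h
    exact ⟨Aᶜ, isConstructible_compl.2 hA, rfl⟩

end Groth.Agent.PtTop50
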