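import Mathlib.Topology.NoetherianSpace
import Mathlib.Topology.Sober
import Mathlib.Topology.KrullDimension
import Mathlib.Topology.LocallyClosed
import Mathlib.Topology.Separation.Hausdorff
import Mathlib.Topology.GDelta.Basic
import Mathlib.SetTheory.Cardinal.Order
import Mathlib.Data.Set.Card

/-! Elementary properties of maps of topological spaces. -/

set_option autoImplicit false
set_option linter.unusedVariables false
set_option linter.unusedSectionVars false
set_option linter.style.haveILetI false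

universe u v

open Set Topology TopologicalSpace

namespace Groth.Agent.PtTop50

variable {X Y : Type u} [TopologicalSpace X] [TopologicalSpace Y]

theorem subset_of_finite_closed_cover {Z : Set X} (hZ : IsIrreducible Z) {S : Set (Set X)}
    (hS : S.Finite) (hcl : ∀ s ∈ S, IsClosed s) (h : Z ⊆ ⋃₀ S) : ∃ s ∈ S, Z ⊆ s := by
  obtain ⟨s, hs, hZs⟩ := isIrreducible_iff_sUnion_isClosed.1 hZ hS.toFinset
    (fun z hz => hcl z (hS.mem_toFinset.1 hz)) (by simpa using h)
  exact ⟨s, hS.mem_toFinset.1 hs, hZs⟩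

theorem generalizingMap_of_isOpenMap [NoetherianSpace X] [QuasiSober X] [T0Space Y]
    {f : X → Y} (hf : Continuous f) (hfo : IsOpenMap f) : GeneralizingMap f := by
  intro x y hyx
  obtain ⟨S, hS, hcl, hirr, heq⟩ :=
    NoetherianSpace.exists_finite_set_isClosed_irreducible (isClosed_closure (s := f ⁻¹' {y}))
  have hx : x ∈ ⋃₀ S := by
    rw [← heq, ← hfo.preimage_closure_eq_closure_preimage hf]
    exact specializes_iff_mem_closure.1 hyx
  have hfib : ∀ Z ∈ S, f '' Z ⊆ closure {y} := by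
    intro Z hZ
    rintro _ ⟨z, hz, rfl⟩
    have : z ∈ closure (f ⁻¹' {y}) := heq ▸ subset_sUnion_of_mem hZ hz
    exact hf.closure_preimage_subset _ this
  suffices h : ∃ Z ∈ S, x ∈ Z ∧ ∃ η, IsGenericPoint η Z ∧ f η ⤳ y by
    obtain ⟨Z, hZ, hxZ, η, hη, hηy⟩ := h
    exact ⟨η, hη.specializes hxZ,
      (hηy.antisymm (specializes_iff_mem_closure.2 (hfib Z hZ ⟨η, hη.mem, rfl⟩))).eq⟩
  by_contra hcon
  push Not at hcon
  -- the components through `x` avoid the fibre, so they are covered by the others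
  let S' : Set (Set X) := {Z ∈ S | x ∉ Z}
  have hfibre : f ⁻¹' {y} ⊆ ⋃₀ S' := by
    intro z hz
    obtain ⟨Z, hZ, hzZ⟩ : z ∈ ⋃₀ S := heq ▸ subset_closure hz
    refine ⟨Z, ⟨hZ, fun hxZ => ?_⟩, hzZ⟩
    obtain ⟨η, hη⟩ := QuasiSober.sober (hirr Z hZ) (hcl Z hZ)
    exact hcon Z hZ hxZ η hη ((hη.specializes hzZ).map hf |>.trans (specializes_of_eq hz))
  have hclosed : IsClosed (⋃₀ S') := by
    rw [sUnion_eq_biUnion]
    exact (hS.subset (sep_subset _ _)).isClosed_biUnion fun Z hZ => hcl Z hZ.1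
  have hx' : x ∈ closure (f ⁻¹' {y}) := by rw [heq]; exact hx
  obtain ⟨Z, hZ, hxZ⟩ := closure_minimal hfibre hclosed hx'
  exact hZ.2 hxZ

theorem t0Space_of_open_quotient {R U : Type u} [TopologicalSpace R] [TopologicalSpace U] [T0Space U]
    {s t : R → U} {π : U → X} (ht : Continuous t) (hπ : Continuous π)
    (hπo : IsOpenMap π) (hsf : ∀ u, (s ⁻¹' {u}).Finite)
    (hsg : GeneralizingMap s)
    (hE : Equivalence fun u u' : U => ∃ r, t r = u ∧ s r = u')
    (hπs : Function.Surjective π) (hπq : ∀ u u' : U, π u = π u' ↔ ∃ r, t r = u ∧ s r = u') :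
    T0Space X := by
  -- each point has a generalization in any orbit specializing to it
  have hlift : ∀ u u' : U, π u' ⤳ π u → ∃ v, π v = π u' ∧ v ⤳ u := by
    intro u u' h
    have hfin : (π ⁻¹' {π u'}).Finite := by
      refine ((hsf u').image t).subset fun v hv => ?_
      obtain ⟨r, hr1, hr2⟩ := (hπq v u').1 hv
      exact ⟨r, hr2, hr1⟩
    have hu : u ∈ closure (π ⁻¹' {π u'}) := by
      rw [← hπo.preimage_closure_eq_closure_preimage hπ]
      exact specializes_iff_mem_closure.1 h
    rw [← biUnion_of_singleton (π ⁻¹' {π u'}), hfin.closure_biUnion] at hu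
    obtain ⟨v, hv, hvu⟩ := mem_iUnion₂.1 hu
    exact ⟨v, hv, specializes_iff_mem_closure.2 hvu⟩
  refine (t0Space_iff_inseparable X).2 fun a b hab => ?_
  obtain ⟨u, rfl⟩ := hπs a
  obtain ⟨u', rfl⟩ := hπs b
  by_contra hne
  let A : Set U := π ⁻¹' {π u} ∪ π ⁻¹' {π u'}
  have hfinA : A.Finite := by
    refine Set.Finite.union ?_ ?_
    · refine ((hsf u).image t).subset fun v hv => ?_
      obtain ⟨r, hr1, hr2⟩ := (hπq v u).1 hv
      exact ⟨r, hr2, hr1⟩
    · refine ((hsf u').image t).subset fun v hv => ?_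
      obtain ⟨r, hr1, hr2⟩ := (hπq v u').1 hv
      exact ⟨r, hr2, hr1⟩
  letI : PartialOrder U := specializationOrder U
  obtain ⟨m, hm, hmax⟩ := hfinA.exists_maximal ⟨u, .inl rfl⟩
  rcases hm with hm | hm
  · obtain ⟨v, hv, hvm⟩ := hlift m u' (by rw [hm]; exact hab.specializes')
    have : m ⤳ v → False := fun h => hne (hm.symm.trans ((congrArg π (h.antisymm hvm).eq).trans hv))
    exact this (specializes_iff_forall_open.2 fun V hV hv' =>
      (show m ⤳ v from hmax (.inr hv) hvm).mem_open hV hv')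
  · obtain ⟨v, hv, hvm⟩ := hlift m u (by rw [hm]; exact hab.specializes)
    have : m ⤳ v → False := fun h => hne (hv.symm.trans ((congrArg π (h.antisymm hvm).eq.symm).trans hm))
    exact this (show m ⤳ v from hmax (.inl hv) hvm)

theorem exists_lift_chain_generalizing {f : X → Y} (hs : Function.Surjective f)
    (hg : GeneralizingMap f) (y : ℕ → Y) :
    ∀ n, (∀ k < n, y (k + 1) ⤳ y k) → ∃ x : ℕ → X, (∀ k ≤ n, f (x k) = y k) ∧
      ∀ k < n, x (k + 1) ⤳ x k := by
  intro n
  induction n with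
  | zero =>
    intro _
    obtain ⟨a, ha⟩ := hs (y 0)
    exact ⟨fun _ => a, fun k hk => by simpa [Nat.le_zero.1 hk] using ha, fun k hk => absurd hk (Nat.not_lt_zero k)⟩
  | succ n ih =>
    intro h
    obtain ⟨x, hx, hx'⟩ := ih fun k hk => h k (hk.trans (Nat.lt_succ_self n))
    obtain ⟨a, ha, hfa⟩ := hg (show y (n + 1) ⤳ f (x n) by rw [hx n le_rfl]; exact h n (Nat.lt_succ_self n))
    refine ⟨fun k => if k = n + 1 then a else x k, fun k hk => ?_, fun k hk => ?_⟩
    · by_cases hkn : k = n + 1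
      · simp only [if_pos hkn, hkn]; exact hfa
      · simp only [if_neg hkn]; exact hx k (by omega)
    · have h1 : k ≠ n + 1 := by omega
      simp only [if_neg h1]
      by_cases hkn : k = n
      · subst hkn; simp only [if_pos]; exact ha
      · rw [if_neg (by omega)]; exact hx' k (by omega)

theorem exists_lift_chain_specializing {f : X → Y} (hs : Function.Surjective f)
    (hg : SpecializingMap f) (y : ℕ → Y) :
    ∀ n, (∀ k < n, y k ⤳ y (k + 1)) → ∃ x : ℕ → X, (∀ k ≤ n, f (x k) = y k) ∧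
      ∀ k < n, x k ⤳ x (k + 1) := by
  intro n
  induction n with
  | zero =>
    intro _
    obtain ⟨a, ha⟩ := hs (y 0)
    exact ⟨fun _ => a, fun k hk => by simpa [Nat.le_zero.1 hk] using ha, fun k hk => absurd hk (Nat.not_lt_zero k)⟩
  | succ n ih =>
    intro h
    obtain ⟨x, hx, hx'⟩ := ih fun k hk => h k (hk.trans (Nat.lt_succ_self n))
    obtain ⟨a, ha, hfa⟩ := hg (show f (x n) ⤳ y (n + 1) by rw [hx n le_rfl]; exact h n (Nat.lt_succ_self n))
    refine ⟨fun k => if k = n + 1 then a else x k, fun k hk => ?_, fun k hk => ?_⟩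
    · by_cases hkn : k = n + 1
      · simp only [if_pos hkn, hkn]; exact hfa
      · simp only [if_neg hkn]; exact hx k (by omega)
    · have h1 : k ≠ n + 1 := by omega
      simp only [if_neg h1]
      by_cases hkn : k = n
      · subst hkn; simp only [if_pos]; exact ha
      · rw [if_neg (by omega)]; exact hx' k (by omega)

theorem dim_le_of_surjective [QuasiSober Y] [T0Space Y] {f : X → Y} (hf : Continuous f)
    (hs : Function.Surjective f) (hlift : SpecializingMap f ∨ GeneralizingMap f) :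
    topologicalKrullDim Y ≤ topologicalKrullDim X := by
  refine iSup_le fun l => ?_
  choose g hg using fun k : ℕ =>
    QuasiSober.sober (l ⟨min k l.length, by omega⟩).isIrreducible (l ⟨min k l.length, by omega⟩).isClosed
  have hlt : ∀ k < l.length, (g (k + 1) ⤳ g k) ∧ ¬ g k ⤳ g (k + 1) := by
    intro k hk
    have h1 : l ⟨min k l.length, by omega⟩ < l ⟨min (k + 1) l.length, by omega⟩ :=
      l.strictMono (by rw [Fin.mk_lt_mk]; omega)
    refine ⟨(hg (k + 1)).specializes (h1.le (hg k).mem), fun hsp => not_le_of_gt h1 ?_⟩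
    intro z hz
    exact (hg k).specializes_iff_mem.1 (hsp.trans ((hg (k + 1)).specializes hz))
  suffices h : ∃ x : ℕ → X, ∀ k < l.length, x (k + 1) ⤳ x k ∧ ¬ x k ⤳ x (k + 1) by
    obtain ⟨x, hx⟩ := h
    let F : Fin (l.length + 1) → IrreducibleCloseds X := fun i =>
      ⟨closure {x i}, isIrreducible_singleton.closure, isClosed_closure⟩
    have hF : ∀ i : Fin l.length, F i.castSucc < F i.succ := by
      intro i
      obtain ⟨h1, h2⟩ := hx i i.2
      refine lt_of_le_of_ne ?_ fun he => h2 ?_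
      · exact closure_minimal (singleton_subset_iff.2 (specializes_iff_mem_closure.1 h1)) isClosed_closure
      · refine specializes_iff_mem_closure.2 ?_
        have hm : x (i + 1) ∈ F i.succ := subset_closure rfl
        rw [← he] at hm
        exact hm
    exact Order.LTSeries.length_le_krullDim (⟨l.length, F, hF⟩ : LTSeries (IrreducibleCloseds X))
  rcases hlift with hsp | hgen
  · obtain ⟨x, hx, hx'⟩ := exists_lift_chain_specializing hs hsp (fun k => g (l.length - k)) l.length
      fun k hk => by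
        have := (hlt (l.length - (k + 1)) (by omega)).1
        rwa [show l.length - (k + 1) + 1 = l.length - k by omega] at this
    refine ⟨fun k => x (l.length - k), fun k hk => ⟨?_, fun h => (hlt k hk).2 ?_⟩⟩
    · have := hx' (l.length - (k + 1)) (by omega)
      rwa [show l.length - (k + 1) + 1 = l.length - k by omega] at this
    · have h1 := h.map hf
      rw [hx _ (by omega), hx _ (by omega)] at h1
      rwa [show l.length - (l.length - k) = k by omega,
        show l.length - (l.length - (k + 1)) = k + 1 by omega] at h1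
  · obtain ⟨x, hx, hx'⟩ := exists_lift_chain_generalizing hs hgen g l.length fun k hk => (hlt k hk).1
    refine ⟨x, fun k hk => ⟨hx' k hk, fun h => (hlt k hk).2 ?_⟩⟩
    have h1 := h.map hf
    rwa [hx _ hk.le, hx _ hk] at h1

theorem isNowhereDense_of_cover {ι : Type v} (U : ι → Set X) (hU : ∀ i, IsOpen (U i))
    (hcov : ⋃ i, U i = univ) (T : Set X)
    (hT : ∀ i, IsNowhereDense ((Subtype.val : U i → X) ⁻¹' T)) : IsNowhereDense T := by
  refine eq_empty_iff_forall_notMem.2 fun x hx => ?_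
  obtain ⟨i, hi⟩ := mem_iUnion.1 (hcov.symm ▸ mem_univ x : x ∈ ⋃ i, U i)
  have h1 : (⟨x, hi⟩ : U i) ∈ interior (closure ((Subtype.val : U i → X) ⁻¹' T)) := by
    rw [← (hU i).isOpenMap_subtype_val.preimage_closure_eq_closure_preimage continuous_subtype_val]
    exact preimage_interior_subset_interior_preimage continuous_subtype_val hx
  rw [hT i] at h1
  exact h1

theorem exists_proper_closed_union_image [T2Space X] {f : X → X} (hf : Continuous f)
    (hs : Function.Surjective f) (hne : f ≠ id) :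
    ∃ E : Set X, IsClosed E ∧ E ≠ univ ∧ E ∪ f '' E = univ := by
  obtain ⟨x, hx⟩ := Function.ne_iff.1 hne
  obtain ⟨V, U, hV, hU, hfxV, hxU, hd⟩ := t2_separation hx
  refine ⟨(U ∩ f ⁻¹' V)ᶜ, (hU.inter (hV.preimage hf)).isClosed_compl,
    fun h => (eq_univ_iff_forall.1 h x) ⟨hxU, hfxV⟩, eq_univ_of_forall fun z => ?_⟩
  by_cases hz : z ∈ U ∩ f ⁻¹' V
  · right
    obtain ⟨w, rfl⟩ := hs z
    exact ⟨w, fun hw => Set.disjoint_left.1 hd hw.2 hz.1, rfl⟩
  · exact .inl hz

theorem closure_eq_image_and_isLocallyClosed_iff {f : X → Y} (hf : Continuous f)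
    (hc : IsClosedMap f) (hs : Function.Surjective f) (T : Set Y) :
    closure T = f '' closure (f ⁻¹' T) ∧ (IsLocallyClosed T ↔ IsLocallyClosed (f ⁻¹' T)) := by
  have h1 : closure T = f '' closure (f ⁻¹' T) := by
    rw [← hc.closure_image_eq_of_continuous hf, image_preimage_eq T hs]
  refine ⟨h1, fun h => h.preimage hf, fun h => ?_⟩
  rw [isLocallyClosed_iff_isOpen_coborder, coborder, isOpen_compl_iff] at h ⊢
  have h2 : closure T \ T = f '' (closure (f ⁻¹' T) \ f ⁻¹' T) := by
    rw [image_sdiff_preimage, h1]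
  rw [h2]
  exact hc _ h

theorem irreducibleComponents_eq_range {n : ℕ} (Z : Fin n → Set X)
    (hZ : ∀ i, IsIrreducible (Z i) ∧ IsClosed (Z i)) (hcov : ⋃ i, Z i = univ)
    (hirr : ∀ i, ¬ Z i ⊆ ⋃ j ∈ ({i}ᶜ : Set (Fin n)), Z j) :
    irreducibleComponents X = range Z := by
  have hsub : ∀ {W : Set X}, IsIrreducible W → ∃ i, W ⊆ Z i := fun {W} hW => by
    obtain ⟨_, ⟨i, rfl⟩, hi⟩ := subset_of_finite_closed_cover hW (finite_range Z)
      (by rintro _ ⟨i, rfl⟩; exact (hZ i).2) (by rw [sUnion_range, hcov]; exact subset_univ _)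
    exact ⟨i, hi⟩
  refine subset_antisymm (fun W hW => ?_) ?_
  · obtain ⟨i, hi⟩ := hsub hW.1
    exact ⟨i, subset_antisymm (hW.2 (hZ i).1 hi) hi⟩
  · rintro _ ⟨i, rfl⟩
    refine ⟨(hZ i).1, fun W hW hsubW => ?_⟩
    obtain ⟨j, hj⟩ := hsub hW
    by_cases hji : j = i
    · exact hji ▸ hj
    · exact absurd ((hsubW.trans hj).trans (subset_biUnion_of_mem (u := Z) hji)) (hirr i)

theorem ncard_irreducibleComponents_le {f : X → Y} (hf : Continuous f) (hs : Function.Surjective f)
    (hfin : (irreducibleComponents X).Finite) :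
    (irreducibleComponents Y).Finite ∧
      (irreducibleComponents Y).ncard ≤ (irreducibleComponents X).ncard := by
  let S := (fun Z => closure (f '' Z)) '' irreducibleComponents X
  have hsub : irreducibleComponents Y ⊆ S := by
    intro W hW
    obtain ⟨s, hsS, hWs⟩ := subset_of_finite_closed_cover hW.1 (hfin.image _ : S.Finite)
      (by rintro _ ⟨Z, -, rfl⟩; exact isClosed_closure) (fun y _ => by
        obtain ⟨x, rfl⟩ := hs y
        obtain ⟨Z, hZ, hxZ⟩ : x ∈ ⋃₀ irreducibleComponents X := by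
          rw [sUnion_irreducibleComponents]; trivial
        exact ⟨_, ⟨Z, hZ, rfl⟩, subset_closure ⟨x, hxZ, rfl⟩⟩)
    obtain ⟨Z, hZ, rfl⟩ := hsS
    exact ⟨Z, hZ, subset_antisymm (hW.2 (hZ.1.image f hf.continuousOn).closure hWs) hWs⟩
  exact ⟨(hfin.image _).subset hsub,
    (ncard_le_ncard hsub (hfin.image _)).trans (ncard_image_le hfin)⟩

theorem locallyNoetherian_range {f : X → Y} (hf : Continuous f) (hfo : IsOpenMap f)
    (hX : ∀ x : X, ∃ E ∈ nhds x, NoetherianSpace E) (y : range f) :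
    ∃ E : Set (range f), E ∈ nhds y ∧ NoetherianSpace E := by
  obtain ⟨-, x, rfl⟩ := y
  obtain ⟨E, hE, hN⟩ := hX x
  refine ⟨rangeFactorization f '' E, ?_, ?_⟩
  · refine mem_nhds_subtype _ _ _ |>.2 ⟨f '' E, hfo.image_mem_nhds hE, ?_⟩
    rintro ⟨_, hy⟩ ⟨w, hw, hwe⟩
    exact ⟨w, hw, Subtype.ext hwe⟩
  · have hg : Continuous (rangeFactorization f ∘ (Subtype.val : E → X)) :=
      hf.rangeFactorization.comp continuous_subtype_val
    have h := NoetherianSpace.range _ hg
    rwa [range_comp, Subtype.range_coe] at h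

theorem card_le_of_denseRange [T2Space Y] {f : X → Y} (hf : Continuous f) (hd : DenseRange f) :
    Cardinal.mk Y ≤ (2 : Cardinal.{u}) ^ ((2 : Cardinal.{u}) ^ Cardinal.mk X) := by
  let F : Y → Set (Set X) := fun y => {A | ∃ U ∈ 𝓝 y, f ⁻¹' U ⊆ A}
  have hF : Function.Injective F := by
    intro y y' h
    by_contra hne
    obtain ⟨U, U', hU, hU', hyU, hyU', hd'⟩ := t2_separation hne
    have h1 : f ⁻¹' U ∈ F y' := h ▸ ⟨U, hU.mem_nhds hyU, Subset.rfl⟩
    obtain ⟨W, hW, hsub⟩ := h1
    obtain ⟨V, hVW, hVo, hyV⟩ := mem_nhds_iff.1 hW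
    obtain ⟨x, hx⟩ := hd.exists_mem_open (hVo.inter hU') ⟨y', hyV, hyU'⟩
    exact Set.disjoint_left.1 hd' (hsub (hVW hx.1)) hx.2
  simpa [Cardinal.mk_set] using Cardinal.mk_le_of_injective hF

end Groth.Agent.PtTop50
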