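import Groth.Prelude.Def_W4stktopologysheavesDim
import Mathlib.Topology.Sober
import Mathlib.Topology.LocallyConstant.Basic
import Mathlib.Topology.NoetherianSpace

/-! Dimension functions on sober spaces. -/

set_option autoImplicit false
set_option linter.unusedVariables false
set_option linter.unusedSectionVars false
set_option linter.style.haveILetI false

universe u

open Set Topology TopologicalSpace

namespace Groth.Agent.PtTop50

variable {X : Type u} [TopologicalSpace X] [QuasiSober X] [T0Space X]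

/-- The irreducible closed subset attached to a point. -/
def cl (x : X) : IrreducibleCloseds X :=
  ⟨closure {x}, isIrreducible_singleton.closure, isClosed_closure⟩

theorem cl_le_iff {x y : X} : cl y ≤ cl x ↔ x ⤳ y :=
  ⟨fun h => specializes_iff_mem_closure.2 (h (subset_closure rfl)),
    fun h => closure_minimal (singleton_subset_iff.2 (specializes_iff_mem_closure.1 h)) isClosed_closure⟩

theorem cl_lt_iff {x y : X} : cl y < cl x ↔ x ⤳ y ∧ x ≠ y := by
  rw [lt_iff_le_and_ne, cl_le_iff]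
  refine and_congr_right fun h => not_congr ⟨fun he => ?_, fun he => by rw [he]⟩
  exact (h.antisymm (cl_le_iff.1 he.ge)).eq

theorem exists_eq_cl (Z : IrreducibleCloseds X) : ∃ x, cl x = Z := by
  obtain ⟨x, hx⟩ := QuasiSober.sober Z.isIrreducible Z.isClosed
  exact ⟨x, IrreducibleCloseds.ext hx⟩

variable {δ : X → ℤ} (hδ : PtTop.IsDimensionFunction δ)
include hδ

theorem exists_series {x y : X} (h : x ⤳ y) :
    ∃ s : LTSeries (IrreducibleCloseds X), s.head = cl y ∧ s.last = cl x ∧
      s.length = (δ x - δ y).toNat := by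
  induction hn : (δ x - δ y).toNat using Nat.strong_induction_on generalizing x y with
  | _ n ih =>
    by_cases hxy : x = y
    · subst hxy
      refine ⟨RelSeries.singleton _ (cl x), rfl, rfl, ?_⟩
      simp [← hn]
    have hlt := hδ.1 x y h hxy
    by_cases him : ∀ z : X, x ⤳ z → z ⤳ y → z = x ∨ z = y
    · have h1 := hδ.2 x y ⟨h, hxy, him⟩
      refine ⟨(RelSeries.singleton _ (cl y)).snoc (cl x) (cl_lt_iff.2 ⟨h, hxy⟩),
        RelSeries.head_snoc _ _ _, RelSeries.last_snoc _ _ _, ?_⟩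
      show 0 + 0 + 1 = n
      omega
    · push Not at him
      obtain ⟨z, hxz, hzy, hzx, hzy'⟩ := him
      have ha := hδ.1 x z hxz (Ne.symm hzx)
      have hb := hδ.1 z y hzy hzy'
      obtain ⟨s, hs1, hs2, hs3⟩ := ih (δ z - δ y).toNat (by omega) hzy rfl
      obtain ⟨t, ht1, ht2, ht3⟩ := ih (δ x - δ z).toNat (by omega) hxz rfl
      refine ⟨s.smash t (hs2.trans ht1.symm), by simp [hs1], by simp [ht2], ?_⟩
      simp only [RelSeries.smash_length]
      omega

theorem length_le (s : LTSeries (IrreducibleCloseds X)) {x y : X} (hy : s.head = cl y)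
    (hx : s.last = cl x) :
    x ⤳ y ∧ (s.length : ℤ) ≤ δ x - δ y := by
  induction s using RelSeries.inductionOn' generalizing x with
  | singleton z =>
    simp only [RelSeries.head_singleton, RelSeries.last_singleton] at hy hx
    have h1 : cl x = cl y := hx.symm.trans hy
    have h2 : x = y := ((cl_le_iff.1 h1.ge).antisymm (cl_le_iff.1 h1.le)).eq
    subst h2
    exact ⟨specializes_rfl, by simp⟩
  | snoc p z hz ih =>
    simp only [RelSeries.head_snoc, RelSeries.last_snoc] at hy hx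
    obtain ⟨w, hw⟩ := exists_eq_cl p.last
    obtain ⟨hwy, hle⟩ := ih hy hw.symm
    have h2 : cl w < cl x := by rw [hw, ← hx]; exact hz
    obtain ⟨hxw, hne⟩ := cl_lt_iff.1 h2
    refine ⟨hxw.trans hwy, ?_⟩
    have := hδ.1 x w hxw hne
    simp only [RelSeries.snoc_length]
    push_cast
    omega

theorem codim_eq {x y : X} (h : x ⤳ y) :
    PtTop.codim (cl y) (closure {x}) = ((δ x - δ y).toNat : ℕ∞) := by
  refine le_antisymm (iSup₂_le fun s hs => ?_) ?_
  · obtain ⟨w, hw⟩ := exists_eq_cl s.last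
    obtain ⟨hwy, hle⟩ := length_le hδ s hs.1 hw.symm
    have hxw : x ⤳ w := specializes_iff_mem_closure.2 (hs.2 (hw ▸ subset_closure rfl))
    have hδle : δ w ≤ δ x := by
      by_cases he : x = w
      · rw [he]
      · exact (hδ.1 x w hxw he).le
    exact Nat.cast_le.2 (by omega)
  · obtain ⟨s, h1, h2, h3⟩ := exists_series hδ h
    rw [← h3]
    exact le_iSup₂ (f := fun (s : LTSeries (IrreducibleCloseds X))
      (_ : s.head = cl y ∧ (s.last : Set X) ⊆ closure {x}) => (s.length : ℕ∞)) s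
      ⟨h1, by rw [h2]; exact Subset.rfl⟩

theorem length_eq_of_covBy (s : LTSeries (IrreducibleCloseds X)) {x y : X} (hy : s.head = cl y)
    (hx : s.last = cl x) (hcov : ∀ i : Fin s.length, s (Fin.castSucc i) ⋖ s (Fin.succ i)) :
    (s.length : ℤ) = δ x - δ y := by
  choose g hg using fun i => exists_eq_cl (s i)
  have step : ∀ i : Fin s.length, δ (g i.succ) = δ (g i.castSucc) + 1 := by
    intro i
    have h := hcov i
    rw [← hg, ← hg] at h
    obtain ⟨hsp, hne⟩ := cl_lt_iff.1 h.lt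
    refine hδ.2 _ _ ⟨hsp, hne, fun z hz1 hz2 => by_contra fun hz => ?_⟩
    push Not at hz
    exact h.2 (cl_lt_iff.2 ⟨hz2, hz.2⟩) (cl_lt_iff.2 ⟨hz1, Ne.symm hz.1⟩)
  have key : ∀ i : Fin (s.length + 1), δ (g i) = δ (g 0) + i.val := by
    intro i
    induction i using Fin.induction with
    | zero => simp
    | succ i ih =>
      rw [step i, ih]
      simp only [Fin.val_succ, Fin.val_castSucc]
      push_cast
      omega
  have inj : ∀ {a b : X}, cl a = cl b → a = b := fun {a b} he =>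
    ((cl_le_iff.1 he.ge).antisymm (cl_le_iff.1 he.le)).eq
  have h0 : g 0 = y := inj ((hg 0).trans hy)
  have h1 : g (Fin.last _) = x := inj ((hg _).trans hx)
  have := key (Fin.last _)
  rw [h0, h1, Fin.val_last] at this
  omega

theorem isCatenary_and_codim :
    PtTop.IsCatenarySpace X ∧
    ∀ x y : X, x ⤳ y →
      PtTop.codim (⟨closure {y}, isIrreducible_singleton.closure, isClosed_closure⟩ : IrreducibleCloseds X)
        (closure {x}) = ((δ x - δ y).toNat : ℕ∞) := by
  refine ⟨fun T T' hTT' => ?_, fun x y h => codim_eq hδ h⟩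
  obtain ⟨y, rfl⟩ := exists_eq_cl T
  obtain ⟨x, rfl⟩ := exists_eq_cl T'
  have h := codim_eq hδ (cl_le_iff.1 hTT')
  refine ⟨?_, fun s h0 h1 hcov => ?_⟩
  · show PtTop.codim (cl y) (closure {x}) ≠ ⊤
    rw [h]; exact ENat.coe_ne_top _
  · show (s.length : ℕ∞) = PtTop.codim (cl y) (closure {x})
    rw [h, ← length_eq_of_covBy hδ s h0 h1 hcov, Int.toNat_natCast]

theorem sub_locallyConstant (hX : ∀ x : X, ∃ E ∈ nhds x, NoetherianSpace E) {δ' : X → ℤ}
    (hδ' : PtTop.IsDimensionFunction δ') : IsLocallyConstant (fun x => δ x - δ' x) := by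
  have heq : ∀ {x y : X}, x ⤳ y → δ x - δ y = δ' x - δ' y := by
    intro x y h
    have h2 := (codim_eq hδ h).symm.trans (codim_eq hδ' h)
    have h3 : (δ x - δ y).toNat = (δ' x - δ' y).toNat := Nat.cast_inj.1 h2
    by_cases hxy : x = y
    · simp [hxy]
    · have := hδ.1 x y h hxy
      have := hδ'.1 x y h hxy
      omega
  refine (IsLocallyConstant.iff_exists_open _).2 fun x => ?_
  obtain ⟨E, hE, hN⟩ := hX x
  obtain ⟨O, hOE, hO, hxO⟩ := mem_nhds_iff.1 hE
  have : NoetherianSpace O := NoetherianSpace.of_subset hOE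
  obtain ⟨Zs, hfin, hcl, hirr, heq'⟩ :=
    NoetherianSpace.exists_finite_set_isClosed_irreducible (isClosed_univ (X := O))
  let bad : Set (Set O) := {Z ∈ Zs | (⟨x, hxO⟩ : O) ∉ Z}
  have hbad : IsClosed (⋃ Z ∈ bad, Z) :=
    (hfin.subset (sep_subset _ _)).isClosed_biUnion fun Z hZ => hcl Z hZ.1
  refine ⟨Subtype.val '' (⋃ Z ∈ bad, Z)ᶜ, hO.isOpenMap_subtype_val _ hbad.isOpen_compl,
    ⟨⟨x, hxO⟩, fun h => ?_, rfl⟩, ?_⟩
  · obtain ⟨Z, hZ, hxZ⟩ := mem_iUnion₂.1 h
    exact hZ.2 hxZ
  · rintro _ ⟨y, hy, rfl⟩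
    obtain ⟨Z, hZ, hyZ⟩ : y ∈ ⋃₀ Zs := heq' ▸ mem_univ y
    have hxZ : (⟨x, hxO⟩ : O) ∈ Z := by_contra fun h => hy (mem_iUnion₂.2 ⟨Z, ⟨hZ, h⟩, hyZ⟩)
    obtain ⟨η, hη⟩ := QuasiSober.sober ((hirr Z hZ).image Subtype.val
      continuous_subtype_val.continuousOn).closure isClosed_closure
    have h1 := heq (hη.specializes (subset_closure ⟨_, hxZ, rfl⟩))
    have h2 := heq (hη.specializes (subset_closure ⟨_, hyZ, rfl⟩))
    show δ y.1 - δ' y.1 = δ x - δ' x
    simp only at h1 h2
    omega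

end Groth.Agent.PtTop50
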