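import Mathlib.Topology.Spectral.Prespectral
import Mathlib.Topology.Connected.Clopen
import Mathlib.Topology.Compactness.LocallyCompact
import Mathlib.Topology.QuasiSeparated
import Mathlib.Topology.Separation.Regular
import Mathlib.Data.Fintype.Pi

/-! Clopen sets in quasi-compact spaces and refinements of coverings. -/

set_option autoImplicit false
set_option linter.unusedVariables false
set_option linter.unusedSectionVars false
set_option linter.style.haveILetI false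

universe u v

open Set Topology TopologicalSpace

namespace Groth.Agent.PtTop50

variable {X : Type u} [TopologicalSpace X]

theorem exists_clopen_of_isCompact [CompactSpace X] {x : X} {K : Set X} (hK : IsCompact K)
    (h : K ∩ ⋂₀ {Z : Set X | IsClopen Z ∧ x ∈ Z} = ∅) : ∃ Z, IsClopen Z ∧ x ∈ Z ∧ Disjoint K Z := by
  rw [sInter_eq_iInter] at h
  obtain ⟨t, ht⟩ := hK.elim_finite_subfamily_closed
    (fun Z : {Z : Set X | IsClopen Z ∧ x ∈ Z} => (Z : Set X)) (fun Z => Z.2.1.1) h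
  exact ⟨⋂ Z ∈ t, (Z : Set X), t.finite_toSet.isClopen_biInter fun Z _ => Z.2.1,
    mem_iInter₂.2 fun Z _ => Z.2.2, Set.disjoint_iff_inter_eq_empty.2 ht⟩

theorem connectedComponent_eq_sInter [CompactSpace X] [PrespectralSpace X] [QuasiSeparatedSpace X]
    (x : X) : connectedComponent x = ⋂₀ {Z : Set X | IsClopen Z ∧ x ∈ Z} := by
  refine subset_antisymm (subset_sInter fun Z hZ => hZ.1.connectedComponent_subset hZ.2) ?_
  let S : Set X := ⋂₀ {Z : Set X | IsClopen Z ∧ x ∈ Z}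
  have hxS : x ∈ S := fun Z hZ => hZ.2
  have hScl : IsClosed S := isClosed_sInter fun Z hZ => hZ.1.1
  refine IsPreconnected.subset_connectedComponent ?_ hxS
  rw [isPreconnected_closed_iff]
  intro B C hB hC hcov ⟨b, hbS, hbB⟩ ⟨c, hcS, hcC⟩
  by_contra hempty
  rw [not_nonempty_iff_eq_empty, eq_empty_iff_forall_notMem] at hempty
  have hB' : IsCompact (S ∩ B) := (hScl.inter hB).isCompact
  have hC' : IsCompact (S ∩ C) := (hScl.inter hC).isCompact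
  obtain ⟨U, hUc, hUo, hBU, hUC⟩ := PrespectralSpace.exists_isCompact_and_isOpen_between hB'
    (hScl.inter hC).isOpen_compl (fun z hz hz' => hempty z ⟨hz.1, hz.2, hz'.2⟩)
  obtain ⟨V, hVc, hVo, hCV, hVB⟩ := PrespectralSpace.exists_isCompact_and_isOpen_between hC'
    (hScl.inter hB).isOpen_compl (fun z hz hz' => hempty z ⟨hz.1, hz'.2, hz.2⟩)
  have hK : IsCompact ((U ∩ V) ∪ (U ∪ V)ᶜ) :=
    (hUc.inter_of_isOpen hVc hUo hVo).union (hUo.union hVo).isClosed_compl.isCompact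
  obtain ⟨Z, hZ, hxZ, hd⟩ := exists_clopen_of_isCompact (x := x) hK (by
    refine eq_empty_iff_forall_notMem.2 ?_
    rintro z ⟨hz, hzS⟩
    rcases hcov hzS with hzB | hzC
    · rcases hz with ⟨-, hzV⟩ | hz
      · exact hVB hzV ⟨hzS, hzB⟩
      · exact hz (.inl (hBU ⟨hzS, hzB⟩))
    · rcases hz with ⟨hzU, -⟩ | hz
      · exact hUC hzU ⟨hzS, hzC⟩
      · exact hz (.inr (hCV ⟨hzS, hzC⟩)))
  have hUV : ∀ z ∈ Z, (z ∈ U ↔ z ∉ V) := fun z hz => by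
    have h1 := Set.disjoint_right.1 hd hz
    simp only [mem_union, mem_inter_iff, mem_compl_iff, not_or, not_and, not_not] at h1
    tauto
  have hZU : IsClopen (Z ∩ U) := by
    refine ⟨?_, hZ.2.inter hUo⟩
    have : Z ∩ U = Z ∩ Vᶜ := Set.ext fun z => and_congr_right fun hz => hUV z hz
    exact this ▸ hZ.1.inter hVo.isClosed_compl
  have hZV : IsClopen (Z ∩ V) := by
    refine ⟨?_, hZ.2.inter hVo⟩
    have : Z ∩ V = Z ∩ Uᶜ := Set.ext fun z => and_congr_right fun hz => by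
      simp [hUV z hz]
    exact this ▸ hZ.1.inter hUo.isClosed_compl
  by_cases hxU : x ∈ U
  · have hc : c ∈ Z ∩ U := hcS _ ⟨hZU, hxZ, hxU⟩
    exact hUC hc.2 ⟨hcS, hcC⟩
  · have hxV : x ∈ V := by_contra fun h => hxU ((hUV x hxZ).2 h)
    have hb : b ∈ Z ∩ V := hbS _ ⟨hZV, hxZ, hxV⟩
    exact hVB hb.2 ⟨hbS, hbB⟩

theorem sInter_isClopen_iff [CompactSpace X] [PrespectralSpace X] [QuasiSeparatedSpace X]
    (T : Set X) :
    (∃ S : Set (Set X), (∀ Z ∈ S, IsClopen Z) ∧ T = ⋂₀ S) ↔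
      (IsClosed T ∧ ∀ x ∈ T, connectedComponent x ⊆ T) := by
  refine ⟨?_, fun ⟨hT, hsat⟩ => ?_⟩
  · rintro ⟨S, hS, rfl⟩
    exact ⟨isClosed_sInter fun Z hZ => (hS Z hZ).1, fun x hx =>
      subset_sInter fun Z hZ => (hS Z hZ).connectedComponent_subset (hx Z hZ)⟩
  · refine ⟨{Z | IsClopen Z ∧ T ⊆ Z}, fun Z hZ => hZ.1,
      subset_antisymm (subset_sInter fun Z hZ => hZ.2) fun x hx => by_contra fun hxT => ?_⟩
    obtain ⟨Z, hZ, hxZ, hd⟩ := exists_clopen_of_isCompact (x := x) hT.isCompact (by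
      refine eq_empty_iff_forall_notMem.2 fun z hz => hxT ?_
      rw [← connectedComponent_eq_sInter] at hz
      exact hsat z hz.1 (connectedComponent_eq hz.2 ▸ mem_connectedComponent))
    exact hx Zᶜ ⟨hZ.compl, Set.disjoint_left.1 hd⟩ hxZ

/-- Separation of a point from a compact set by disjoint opens. -/
theorem exists_open_closure_inter {Z : Set X}
    (hsep : ∀ z ∈ Z, ∀ z' ∈ Z, z ≠ z' → ∃ A B : Set X, IsOpen A ∧ IsOpen B ∧ z ∈ A ∧ z' ∈ B ∧ Disjoint A B)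
    (hZ : IsCompact Z) {U : Set X} (hU : IsOpen U) {z : X} (hzZ : z ∈ Z) (hzU : z ∈ U) :
    ∃ O, IsOpen O ∧ z ∈ O ∧ O ⊆ U ∧ closure O ∩ Z ⊆ U := by
  have h : ∀ w : ↥(Z \ U), ∃ A B : Set X, IsOpen A ∧ IsOpen B ∧ z ∈ A ∧ w.1 ∈ B ∧ Disjoint A B :=
    fun w => hsep z hzZ w.1 w.2.1 fun he => w.2.2 (he ▸ hzU)
  choose A B hA hB hzA hwB hd using h
  obtain ⟨t, ht⟩ := (hZ.diff hU).elim_finite_subcover B hB fun w hw => mem_iUnion.2 ⟨⟨w, hw⟩, hwB ⟨w, hw⟩⟩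
  refine ⟨U ∩ ⋂ w ∈ t, A w, hU.inter (isOpen_biInter_finset fun w _ => hA w),
    ⟨hzU, mem_iInter₂.2 fun w _ => hzA w⟩, inter_subset_left, fun y hy => by_contra fun hyU => ?_⟩
  obtain ⟨w, hw, hyw⟩ := mem_iUnion₂.1 (ht ⟨hy.2, hyU⟩)
  obtain ⟨v, hvB, hvA⟩ := mem_closure_iff.1 hy.1 (B w) (hB w) hyw
  exact Set.disjoint_left.1 (hd w) (mem_iInter₂.1 hvA.2 w hw) hvB

/-- The combinatorial core of the refinement lemmas. -/
theorem exists_refinement_core {Z S : Set X} (hZ : IsCompact Z) (hZS : Z ⊆ S) {ι : Type v}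
    (U : ι → Set X) (hU : ∀ i, IsOpen (U i))
    (hloc : ∀ z ∈ Z, ∃ i, ∃ O, IsOpen O ∧ z ∈ O ∧ O ⊆ U i ∧ closure O ∩ S ⊆ U i) (p : ℕ)
    (N : X → (Fin (p + 1) → ι) → Set X) (hNo : ∀ z t, IsOpen (N z t))
    (hN : ∀ z ∈ Z, ∀ t, (∀ l, z ∈ U (t l)) → z ∈ N z t) :
    ∃ (V : X → Set X) (α : Z → ι), (∀ z ∈ Z, IsOpen (V z) ∧ z ∈ V z) ∧
      (∀ i, closure (⋃ z ∈ {z : Z | α z = i}, V z.1) ∩ S ⊆ U i) ∧
      (∀ z : Z, V z.1 ⊆ U (α z)) ∧
      ∀ z : Fin (p + 1) → Z, (⋂ l, V (z l).1).Nonempty →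
        (∀ l, (z 0).1 ∈ U (α (z l))) ∧ V (z 0).1 ⊆ N (z 0).1 (α ∘ z) := by
  classical
  choose i O hOo hzO hOU hOS using hloc
  obtain ⟨t, ht⟩ := hZ.elim_finite_subcover (fun z : Z => O z.1 z.2) (fun z => hOo z.1 z.2)
    fun z hz => mem_iUnion.2 ⟨⟨z, hz⟩, hzO z hz⟩
  have hch : ∀ z : Z, ∃ k : t, z.1 ∈ O k.1.1 k.1.2 := fun z =>
    let ⟨k, hk, hzk⟩ := mem_iUnion₂.1 (ht z.2)
    ⟨⟨k, hk⟩, hzk⟩
  choose k hk using hch
  let α : Z → ι := fun z => i (k z).1.1 (k z).1.2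
  let idx : t → ι := fun m => i m.1.1 m.1.2
  let V : X → Set X := fun z => if hz : z ∈ Z then
      O (k ⟨z, hz⟩).1.1 (k ⟨z, hz⟩).1.2 ∩
        ((⋂ m ∈ {m : t | z ∉ closure (O m.1.1 m.1.2)}, (closure (O m.1.1 m.1.2))ᶜ) ∩
          ⋂ s ∈ {s : Fin (p + 1) → t | ∀ l, z ∈ U (idx (s l))}, N z (idx ∘ s))
    else ∅
  refine ⟨V, α, fun z hz => ?_, fun i' => ?_, fun z => ?_, fun z hne => ?_⟩
  · simp only [V, dif_pos hz]
    refine ⟨(hOo _ _).inter (IsOpen.inter ((Set.toFinite _).isOpen_biInter fun m _ =>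
        isClosed_closure.isOpen_compl) ((Set.toFinite _).isOpen_biInter fun s _ => hNo z _)),
      hk ⟨z, hz⟩, mem_iInter₂.2 fun m hm => hm, mem_iInter₂.2 fun s hs => hN z hz _ hs⟩
  · have hsub : (⋃ z ∈ {z : Z | α z = i'}, V z.1) ⊆ ⋃ m ∈ {m : t | idx m = i'}, O m.1.1 m.1.2 := by
      refine iUnion₂_subset fun z hz y hy => mem_iUnion₂.2 ⟨k z, hz, ?_⟩
      simp only [V, dif_pos z.2] at hy
      exact hy.1
    rintro y ⟨hy, hyS⟩
    have h := closure_mono hsub hy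
    rw [(Set.toFinite _).closure_biUnion] at h
    obtain ⟨m, hm, hym⟩ := mem_iUnion₂.1 h
    exact (show idx m = i' from hm) ▸ hOS _ _ ⟨hym, hyS⟩
  · intro y hy
    simp only [V, dif_pos z.2] at hy
    exact hOU _ _ hy.1
  · obtain ⟨y, hy⟩ := hne
    have hy' := fun l => mem_iInter.1 hy l
    have hmem : ∀ l, (z 0).1 ∈ closure (O (k (z l)).1.1 (k (z l)).1.2) := by
      intro l
      by_contra hcon
      have h0 := hy' 0
      have hl := hy' l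
      simp only [V, dif_pos (z 0).2] at h0
      simp only [V, dif_pos (z l).2] at hl
      exact mem_iInter₂.1 h0.2.1 (k (z l)) hcon (subset_closure hl.1)
    have hU' : ∀ l, (z 0).1 ∈ U (α (z l)) := fun l => hOS _ _ ⟨hmem l, hZS (z 0).2⟩
    refine ⟨hU', fun v hv => ?_⟩
    simp only [V, dif_pos (z 0).2] at hv
    exact mem_iInter₂.1 hv.2.2 (k ∘ z) hU'

theorem exists_cech_refinement [CompactSpace X] [T2Space X] {ι : Type u} (U : ι → Set X)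
    (hU : ∀ i, IsOpen (U i)) (hcov : ⋃ i, U i = univ) (p : ℕ)
    (W : (Fin (p + 1) → ι) → Set (Set X)) (hWo : ∀ t, ∀ w ∈ W t, IsOpen w)
    (hWc : ∀ t, ⋃₀ W t = ⋂ l, U (t l)) (hWne : ∀ t, (W t).Nonempty) :
    ∃ (J : Type u) (V : J → Set X) (α : J → ι), (∀ j, IsOpen (V j)) ∧ (⋃ j, V j = univ) ∧
      (∀ j, closure (V j) ⊆ U (α j)) ∧
      (∀ t : Fin (p + 1) → J, ∃ w ∈ W (α ∘ t), (⋂ l, V (t l)) ⊆ w) := by
  classical
  have hw : ∀ (z : X) (t : Fin (p + 1) → ι), ∃ w ∈ W t, (∀ l, z ∈ U (t l)) → z ∈ w := by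
    intro z t
    by_cases h : ∀ l, z ∈ U (t l)
    · obtain ⟨w, hw, hzw⟩ : z ∈ ⋃₀ W t := by rw [hWc]; exact mem_iInter.2 h
      exact ⟨w, hw, fun _ => hzw⟩
    · exact ⟨_, (hWne t).some_mem, fun h' => absurd h' h⟩
  choose N hNW hN using hw
  obtain ⟨V, α, hV, hcl, hVU, hint⟩ := exists_refinement_core (Z := univ) (S := univ) isCompact_univ
    Subset.rfl U hU (fun z _ => by
      obtain ⟨i, hi⟩ := mem_iUnion.1 (hcov.symm ▸ mem_univ z : z ∈ ⋃ i, U i)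
      obtain ⟨O, hOo, hzO, hO1, hO2⟩ := exists_open_closure_inter
        (fun a _ b _ hab => t2_separation hab) isCompact_univ (hU i) (mem_univ z) hi
      exact ⟨i, O, hOo, hzO, hO1, hO2⟩) p N (fun z t => hWo t _ (hNW z t)) (fun z _ t => hN z t)
  refine ⟨↥(univ : Set X), fun z => V z.1, α, fun z => (hV z.1 z.2).1,
    eq_univ_of_forall fun z => mem_iUnion.2 ⟨⟨z, trivial⟩, (hV z trivial).2⟩, fun z => ?_, fun t => ?_⟩
  · refine fun y hy => hcl (α z) ⟨closure_mono ?_ hy, trivial⟩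
    exact subset_biUnion_of_mem (u := fun z : (univ : Set X) => V z.1) (show z ∈ {w | α w = α z} from rfl)
  · by_cases h : (⋂ l, V (t l).1).Nonempty
    · exact ⟨_, hNW _ (α ∘ t), fun y hy => (hint t h).2 (mem_iInter.1 hy 0)⟩
    · exact ⟨_, (hWne _).some_mem, fun y hy => absurd ⟨y, hy⟩ h⟩

theorem exists_lift_core {Z S : Set X} (hZ : IsCompact Z) (hZS : Z ⊆ S) {ι : Type u}
    (U : ι → Set X) (hU : ∀ i, IsOpen (U i))
    (hloc : ∀ z ∈ Z, ∃ i, ∃ O, IsOpen O ∧ z ∈ O ∧ O ⊆ U i ∧ closure O ∩ S ⊆ U i) (p : ℕ)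
    (W : (Fin (p + 1) → ι) → Set X) (hWo : ∀ t, IsOpen (W t))
    (hWZ : ∀ t, W t ∩ Z = (⋂ l, U (t l)) ∩ Z) :
    ∃ V : ι → Set X, (∀ i, IsOpen (V i)) ∧ (Z ⊆ ⋃ i, V i) ∧ (∀ i, V i ⊆ U i) ∧
      (∀ i, closure (V i) ∩ S ⊆ U i) ∧ (∀ t : Fin (p + 1) → ι, (⋂ l, V (t l)) ⊆ W t) := by
  obtain ⟨V, α, hV, hcl, hVU, hint⟩ := exists_refinement_core hZ hZS U hU hloc p
    (fun _ t => W t) (fun _ t => hWo t)
    (fun z hz t h => ((hWZ t).symm ▸ ⟨mem_iInter.2 h, hz⟩ : z ∈ W t ∩ Z).1)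
  refine ⟨fun i => ⋃ z ∈ {z : Z | α z = i}, V z.1,
    fun i => isOpen_biUnion fun z _ => (hV z.1 z.2).1, fun z hz => ?_, fun i => ?_, hcl, fun t y hy => ?_⟩
  · exact mem_iUnion.2 ⟨α ⟨z, hz⟩, mem_iUnion₂.2 ⟨⟨z, hz⟩, rfl, (hV z hz).2⟩⟩
  · exact iUnion₂_subset fun z hz => (show α z = i from hz) ▸ hVU z
  · have h : ∀ l, ∃ z : Z, α z = t l ∧ y ∈ V z.1 := fun l => by
      obtain ⟨z, hz, hyz⟩ := mem_iUnion₂.1 (mem_iInter.1 hy l)
      exact ⟨z, hz, hyz⟩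
    choose z hz hyz using h
    have := (hint z ⟨y, mem_iInter.2 hyz⟩).2 (hyz 0)
    rwa [show α ∘ z = t from funext hz] at this

theorem exists_opens_lifting_relHausdorff {Z : Set X} (hZ : IsCompact Z)
    (hsep : ∀ z ∈ Z, ∀ z' ∈ Z, z ≠ z' → ∃ A B : Set X, IsOpen A ∧ IsOpen B ∧ z ∈ A ∧ z' ∈ B ∧ Disjoint A B)
    {ι : Type u} (U : ι → Set X) (hU : ∀ i, IsOpen (U i)) (hcov : Z ⊆ ⋃ i, U i) (p : ℕ)
    (W : (Fin (p + 1) → ι) → Set X) (hWo : ∀ t, IsOpen (W t))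
    (hWZ : ∀ t, W t ∩ Z = (⋂ l, U (t l)) ∩ Z) :
    ∃ V : ι → Set X, (∀ i, IsOpen (V i)) ∧ (Z ⊆ ⋃ i, V i) ∧ (∀ i, V i ⊆ U i) ∧
      (∀ i, closure (V i) ∩ Z ⊆ U i) ∧ (∀ t : Fin (p + 1) → ι, (⋂ l, V (t l)) ⊆ W t) :=
  exists_lift_core hZ Subset.rfl U hU (fun z hz => by
    obtain ⟨i, hi⟩ := mem_iUnion.1 (hcov hz)
    exact ⟨i, exists_open_closure_inter hsep hZ (hU i) hz hi⟩) p W hWo hWZ

theorem exists_opens_lifting_locallyCompact [T2Space X] [LocallyCompactSpace X] {Z : Set X}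
    (hZ : IsCompact Z) {ι : Type u} (U : ι → Set X) (hU : ∀ i, IsOpen (U i)) (hcov : Z ⊆ ⋃ i, U i)
    (p : ℕ) (W : (Fin (p + 1) → ι) → Set X) (hWo : ∀ t, IsOpen (W t))
    (hWZ : ∀ t, W t ∩ Z = (⋂ l, U (t l)) ∩ Z) :
    ∃ V : ι → Set X, (∀ i, IsOpen (V i)) ∧ (Z ⊆ ⋃ i, V i) ∧ (∀ i, closure (V i) ⊆ U i) ∧
      (∀ t : Fin (p + 1) → ι, (⋂ l, V (t l)) ⊆ W t) := by
  obtain ⟨V, h1, h2, -, h4, h5⟩ := exists_lift_core hZ (subset_univ Z) U hU (fun z hz => by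
    obtain ⟨i, hi⟩ := mem_iUnion.1 (hcov hz)
    obtain ⟨K, hK, hKU, hKc⟩ := local_compact_nhds ((hU i).mem_nhds hi)
    exact ⟨i, interior K, isOpen_interior, mem_interior_iff_mem_nhds.2 hK, interior_subset.trans hKU,
      inter_subset_left.trans ((closure_minimal interior_subset hKc.isClosed).trans hKU)⟩) p W hWo hWZ
  exact ⟨V, h1, h2, fun i y hy => h4 i ⟨hy, trivial⟩, h5⟩

end Groth.Agent.PtTop50
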