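import Groth.Agent.PtTop50.Maps
import Mathlib.Topology.ExtremallyDisconnected
import Mathlib.Topology.Compactification.StoneCech

/-! The projective cover of a compact Hausdorff space. -/

set_option autoImplicit false
set_option linter.unusedVariables false
set_option linter.unusedSectionVars false
set_option linter.style.haveILetI false

universe u

open Set Topology TopologicalSpace Function

namespace Groth.Agent.PtTop50

/-- A copy of a type carrying the discrete topology. -/
def DiscCopy (α : Type u) : Type u := α

instance instTopologicalSpaceDiscCopy (α : Type u) : TopologicalSpace (DiscCopy α) := ⊥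

instance instDiscreteTopologyDiscCopy (α : Type u) : DiscreteTopology (DiscCopy α) := ⟨rfl⟩

variable {X : Type u} [TopologicalSpace X] [T2Space X] [CompactSpace X]

theorem surjective_of_minimal {E F : Type u} [TopologicalSpace E] [TopologicalSpace F]
    [CompactSpace E] [T2Space F] {p : E → X} {q : F → X} {g : E → F} (hg : Continuous g)
    (hp : Surjective p) (hqg : q ∘ g = p)
    (hmin : ∀ S : Set F, IsClosed S → S ≠ univ → q '' S ≠ univ) : Surjective g := by
  rw [← range_eq_univ]
  by_contra h
  refine hmin _ (isCompact_range hg).isClosed h ?_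
  rw [← range_comp, hqg, hp.range_eq]

theorem eq_id_of_minimal {E : Type u} [TopologicalSpace E] [CompactSpace E] [T2Space E] {p : E → X}
    (hp : Surjective p) (hmin : ∀ S : Set E, IsClosed S → S ≠ univ → p '' S ≠ univ) {g : E → E}
    (hg : Continuous g) (hpg : p ∘ g = p) : g = id := by
  by_contra hne
  obtain ⟨S, hS, hSne, hSu⟩ :=
    exists_proper_closed_union_image hg (surjective_of_minimal hg hp hpg hmin) hne
  refine hmin S hS hSne (eq_univ_of_forall fun z => ?_)
  obtain ⟨e, rfl⟩ := hp z
  rcases (hSu ▸ mem_univ e : e ∈ S ∪ g '' S) with h | ⟨s, hs, rfl⟩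
  · exact ⟨e, h, rfl⟩
  · exact ⟨s, hs, (congrFun hpg s).symm⟩

theorem exists_minimal_cover :
    ∃ (X' : Type u) (_ : TopologicalSpace X') (_ : CompactSpace X') (_ : T2Space X')
      (_ : ExtremallyDisconnected X') (p : X' → X), Continuous p ∧ Surjective p ∧
        ∀ E : Set X', IsClosed E → E ≠ univ → p '' E ≠ univ := by
  let f₀ : DiscCopy X → X := fun x => x
  have hid : Continuous f₀ := continuous_of_discreteTopology
  let q : StoneCech (DiscCopy X) → X := stoneCechExtend hid
  have hq : Continuous q := continuous_stoneCechExtend hid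
  have hqs : Surjective q := fun x =>
    ⟨stoneCechUnit (show DiscCopy X from x), congrFun (stoneCechExtend_extends hid) x⟩
  obtain ⟨E, hE, himg, hmin'⟩ := exists_compact_surjective_zorn_subset hq hqs
  have hp : Surjective (E.domRestrict q) := fun x => by
    obtain ⟨e, he, rfl⟩ := (himg.symm ▸ mem_univ x : x ∈ q '' E)
    exact ⟨⟨e, he⟩, rfl⟩
  have hpc : Continuous (E.domRestrict q) := hq.comp continuous_subtype_val
  have hmin : ∀ S : Set E, IsClosed S → S ≠ univ → E.domRestrict q '' S ≠ univ :=
    fun S hS hne => hmin' S hne hS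
  obtain ⟨h, hh, hhp⟩ := StoneCech.projective (X := DiscCopy X) hq hpc hp
  have hr : h ∘ (Subtype.val : E → StoneCech (DiscCopy X)) = id :=
    eq_id_of_minimal hp hmin (hh.comp continuous_subtype_val) (by
      funext e; exact congrFun hhp e.1)
  have hproj : CompactT2.Projective E := by
    intro Y Z _ _ _ _ _ _ f g hf hg hgs
    obtain ⟨l, hl, hgl⟩ := StoneCech.projective (X := DiscCopy X) (hf.comp hh) hg hgs
    refine ⟨l ∘ Subtype.val, hl.comp continuous_subtype_val, ?_⟩
    rw [← comp_assoc, hgl, comp_assoc, hr, comp_id]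
  have hED : ExtremallyDisconnected E := hproj.extremallyDisconnected
  exact ⟨E, inferInstance, hE, inferInstance, hED, E.domRestrict q, hpc, hp, hmin⟩

theorem unique_minimal_cover (X' X'' : Type u) [TopologicalSpace X'] [CompactSpace X'] [T2Space X']
    [ExtremallyDisconnected X'] [TopologicalSpace X''] [CompactSpace X''] [T2Space X'']
    [ExtremallyDisconnected X''] (p : X' → X) (q : X'' → X)
    (hp : Continuous p) (hps : Surjective p) (hpm : ∀ E : Set X', IsClosed E → E ≠ univ → p '' E ≠ univ)
    (hq : Continuous q) (hqs : Surjective q) (hqm : ∀ E : Set X'', IsClosed E → E ≠ univ → q '' E ≠ univ) :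
    ∃ h : X' ≃ₜ X'', q ∘ h = p := by
  obtain ⟨h, hh, hqh⟩ := CompactT2.ExtremallyDisconnected.projective (A := X') hp hq hqs
  obtain ⟨k, hk, hpk⟩ := CompactT2.ExtremallyDisconnected.projective (A := X'') hq hp hps
  have h1 : k ∘ h = id := eq_id_of_minimal hps hpm (hk.comp hh) (by rw [← comp_assoc, hpk, hqh])
  have h2 : h ∘ k = id := eq_id_of_minimal hqs hqm (hh.comp hk) (by rw [← comp_assoc, hqh, hpk])
  exact ⟨{ toFun := h, invFun := k, left_inv := congrFun h1, right_inv := congrFun h2,
           continuous_toFun := hh, continuous_invFun := hk }, hqh⟩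

end Groth.Agent.PtTop50
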