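import Groth.Agent.SpecSp50.Limits

/-! Opens of cofiltered limits of topological spaces. -/

set_option autoImplicit false
set_option linter.unusedVariables false
set_option linter.unusedSectionVars false
set_option linter.style.haveILetI false

universe u

open Set Topology TopologicalSpace CategoryTheory CategoryTheory.Limits

namespace Groth.Agent.PtTop50

theorem isOpen_limit_iff {J : Type u} [SmallCategory J] [IsCofiltered J]
    (F : J ⥤ TopCat.{u}) (c : Cone F) (hc : IsLimit c) :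
    (∀ W : Set c.pt, IsOpen W →
      ∃ S : Set (Σ j, Set (F.obj j)), (∀ s ∈ S, IsOpen s.2) ∧ W = ⋃ s ∈ S, c.π.app s.1 ⁻¹' s.2) ∧
    (∀ W : Set c.pt, IsOpen W → IsCompact W →
      ∃ (i : J) (Ui : Set (F.obj i)), IsOpen Ui ∧ W = c.π.app i ⁻¹' Ui) := by
  classical
  have hind := (SpecSp50.toPi_spec F c hc).1.isInducing.eq_induced
  have hloc : ∀ (W : Set c.pt), IsOpen W → ∀ x : W, ∃ (k : J) (U : Set (F.obj k)), IsOpen U ∧
      c.π.app k x.1 ∈ U ∧ c.π.app k ⁻¹' U ⊆ W := fun W hW x =>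
    SpecSp50.exists_stage_nhds F c (fun j => (F.obj j).str) (fun a => (F.map a).hom.continuous)
      (O := W) (hind ▸ hW) x.2
  refine ⟨fun W hW => ?_, fun W hW hWc => ?_⟩
  · refine ⟨{s | IsOpen s.2 ∧ c.π.app s.1 ⁻¹' s.2 ⊆ W}, fun s hs => hs.1, ?_⟩
    refine subset_antisymm (fun x hx => ?_) (iUnion₂_subset fun s hs => hs.2)
    obtain ⟨k, U, hU, hxU, hsub⟩ := hloc W hW ⟨x, hx⟩
    exact mem_iUnion₂.2 ⟨⟨k, U⟩, ⟨hU, hsub⟩, hxU⟩
  · choose k U hU hxU hsub using hloc W hW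
    obtain ⟨T, hT⟩ := hWc.elim_finite_subcover (fun x : W => c.π.app (k x) ⁻¹' U x)
      (fun x => (hU x).preimage (c.π.app (k x)).hom.continuous)
      fun x hx => mem_iUnion.2 ⟨⟨x, hx⟩, hxU ⟨x, hx⟩⟩
    obtain ⟨l, a, -⟩ := SpecSp50.exists_common_stage T k
    refine ⟨l, ⋃ t : T, F.map (a t) ⁻¹' U t,
      isOpen_iUnion fun t => (hU t).preimage (F.map (a t)).hom.continuous, ?_⟩
    refine subset_antisymm (fun y hy => ?_) fun y hy => ?_
    · obtain ⟨t, ht, hyt⟩ := mem_iUnion₂.1 (hT hy)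
      exact mem_iUnion.2 ⟨⟨t, ht⟩, (SpecSp50.mem_preimage_map_π F c y (a ⟨t, ht⟩) _).2 hyt⟩
    · obtain ⟨t, ht⟩ := mem_iUnion.1 hy
      exact hsub t ((SpecSp50.mem_preimage_map_π F c y (a t) _).1 ht)

end Groth.Agent.PtTop50
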