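import Mathlib.Topology.NoetherianSpace
import Mathlib.Topology.LocallyClosed
import Mathlib.Data.Fintype.Powerset
import Mathlib.Data.Fintype.EquivFin
import Mathlib.Order.Interval.Finset.Fin
import Mathlib.Data.Fintype.Sum
import Mathlib.Data.Fintype.OfMap

/-! Stratifications refining finite partitions. -/

set_option autoImplicit false
set_option linter.unusedVariables false
set_option linter.unusedSectionVars false
set_option linter.style.haveILetI false

universe u v

open Set Topology TopologicalSpace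

namespace Groth.Agent.PtTop50

variable {X : Type u} [TopologicalSpace X]

/-- The atom of a finite family of closed sets indexed by `A`. -/
def atom {ι : Type v} (C : ι → Set X) (A : Finset ι) : Set X := {x | ∀ l, x ∈ C l ↔ l ∈ A}

theorem atom_isLocallyClosed {ι : Type v} [Finite ι] (C : ι → Set X) (hC : ∀ l, IsClosed (C l))
    (A : Finset ι) : IsLocallyClosed (atom C A) := by
  classical
  refine ⟨⋂ l ∈ {l | l ∉ A}, (C l)ᶜ, ⋂ l ∈ A, C l,
    (Set.toFinite _).isOpen_biInter fun l _ => (hC l).isOpen_compl,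
    isClosed_biInter fun l _ => hC l, ?_⟩
  ext x
  simp only [atom, mem_setOf_eq, mem_inter_iff, mem_iInter, mem_compl_iff]
  exact ⟨fun h => ⟨fun l hl hx => hl ((h l).1 hx), fun l hl => (h l).2 hl⟩,
    fun h l => ⟨fun hx => by_contra fun hl => h.1 l hl hx, h.2 l⟩⟩

/-- The closed sets attached to a finite partition into locally closed parts. -/
def partClosed {n : ℕ} (P : Fin n → Set X) : Fin n ⊕ Fin n → Set X :=
  Sum.elim (fun k => closure (P k)) (fun k => closure (P k) \ P k)

theorem isClosed_partClosed {n : ℕ} (P : Fin n → Set X) (hP : ∀ k, IsLocallyClosed (P k))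
    (l : Fin n ⊕ Fin n) : IsClosed (partClosed P l) := by
  cases l with
  | inl k => exact isClosed_closure
  | inr k =>
    have h := (hP k).isOpen_coborder
    rwa [coborder, isOpen_compl_iff] at h

theorem subset_part_of_atom {n : ℕ} (P : Fin n → Set X) {A : Finset (Fin n ⊕ Fin n)} {k : Fin n}
    (h : (atom (partClosed P) A ∩ P k).Nonempty) : atom (partClosed P) A ⊆ P k := by
  obtain ⟨x, hx, hxk⟩ := h
  intro y hy
  have h1 : (.inl k : Fin n ⊕ Fin n) ∈ A := (hx _).1 (subset_closure hxk)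
  have h2 : (.inr k : Fin n ⊕ Fin n) ∉ A := fun hA => ((hx _).2 hA).2 hxk
  by_contra hyk
  exact h2 ((hy _).1 ⟨(hy _).2 h1, hyk⟩)

theorem exists_stratification {n : ℕ} (P : Fin n → Set X) (hP : ∀ k, IsLocallyClosed (P k)) :
    ∃ (I : Type) (_ : Fintype I) (_ : PartialOrder I) (S : I → Set X),
      (∀ i, IsLocallyClosed (S i)) ∧ (⋃ i, S i = univ) ∧ (∀ i j, i ≠ j → Disjoint (S i) (S j)) ∧
      (∀ j, closure (S j) ⊆ ⋃ i ∈ Iic j, S i) ∧
      (∀ i k, (S i ∩ P k).Nonempty → S i ⊆ P k) := by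
  classical
  refine ⟨(Finset (Fin n ⊕ Fin n))ᵒᵈ, inferInstance, inferInstance,
    fun A => atom (partClosed P) (OrderDual.ofDual A),
    fun A => atom_isLocallyClosed _ (isClosed_partClosed P hP) _, ?_, ?_, ?_,
    fun A k => subset_part_of_atom P⟩
  · refine eq_univ_of_forall fun x => mem_iUnion.2
      ⟨OrderDual.toDual (Finset.univ.filter fun l => x ∈ partClosed P l), fun l => ?_⟩
    simp
  · intro A B hAB
    refine Set.disjoint_left.2 fun x hx hx' => hAB ?_
    exact OrderDual.ofDual.injective (Finset.ext fun l => (hx l).symm.trans (hx' l))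
  · intro A x hx
    refine mem_iUnion₂.2 ⟨OrderDual.toDual (Finset.univ.filter fun l => x ∈ partClosed P l), ?_,
      fun l => by simp⟩
    show OrderDual.ofDual A ⊆ Finset.univ.filter fun l => x ∈ partClosed P l
    intro l hl
    refine Finset.mem_filter.2 ⟨Finset.mem_univ _, ?_⟩
    exact closure_minimal (fun y hy => (hy l).2 hl) (isClosed_partClosed P hP l) hx

theorem exists_good_partition [NoetherianSpace X] :
    ∀ (Z : Closeds X) (C : Set (Set X)), C.Finite → (∀ c ∈ C, IsClosed c) →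
      ∃ S : Set (Set X), S.Finite ∧ (∀ s ∈ S, IsLocallyClosed s) ∧ ⋃₀ S = (Z : Set X) ∧
        S.PairwiseDisjoint id ∧
        (∀ s ∈ S, ∀ t ∈ S, (s ∩ closure t).Nonempty → s ⊆ closure t) ∧
        ∀ s ∈ S, ∀ c ∈ C, (s ∩ c).Nonempty → s ⊆ c := by
  intro Z
  induction Z using WellFoundedLT.induction with
  | _ Z ih =>
    intro C hCfin hC
    by_cases hZ : (Z : Set X) = ∅
    · exact ⟨∅, finite_empty, by simp, by simp [hZ], pairwiseDisjoint_empty, by simp, by simp⟩
    obtain ⟨T, hTfin, hTcl, hTirr, hTeq⟩ :=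
      NoetherianSpace.exists_finite_set_isClosed_irreducible Z.isClosed
    -- a member of T not covered by the others
    obtain ⟨T', hT', hmin⟩ := exists_minimal_of_wellFoundedLT
      (fun T' : Finset (Set X) => (↑T' ⊆ T ∧ (Z : Set X) = ⋃₀ ↑T'))
      ⟨hTfin.toFinset, by simp, by simp [hTeq]⟩
    obtain ⟨Z1, hZ1⟩ : T'.Nonempty := by
      by_contra h
      rw [Finset.not_nonempty_iff_eq_empty] at h
      exact hZ (by rw [hT'.2, h]; simp)
    classical
    let R : Set X := ⋃₀ ↑(T'.erase Z1)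
    have hR : IsClosed R := by
      rw [show R = ⋃ s ∈ T'.erase Z1, s from sUnion_eq_biUnion]
      exact isClosed_biUnion_finset fun s hs => hTcl s (hT'.1 (Finset.mem_of_mem_erase hs))
    have hne : ¬ Z1 ⊆ R := fun hsub => by
      have h2 : (Z : Set X) = ⋃₀ ↑(T'.erase Z1) := by
        refine subset_antisymm ?_ ?_
        · rw [hT'.2]
          rintro x ⟨s, hs, hxs⟩
          by_cases hsZ : s = Z1
          · exact hsub (hsZ ▸ hxs)
          · exact ⟨s, Finset.mem_erase.2 ⟨hsZ, hs⟩, hxs⟩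
        · rw [hT'.2]
          exact sUnion_subset_sUnion (by simp)
      have h3 := hmin ⟨(Finset.coe_subset.2 (Finset.erase_subset _ _)).trans hT'.1, h2⟩
        (Finset.erase_subset Z1 T') hZ1
      exact (Finset.notMem_erase Z1 T') h3
    have hirr1 := hTirr Z1 (hT'.1 hZ1)
    let C' : Set (Set X) := {c ∈ C | ¬ Z1 ⊆ c}
    have hC'cl : IsClosed (⋃₀ C') := by
      rw [sUnion_eq_biUnion]
      exact (hCfin.subset (sep_subset _ _)).isClosed_biUnion fun c hc => hC c hc.1
    let U : Set X := Z1 \ (R ∪ ⋃₀ C')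
    have hUne : U.Nonempty := by
      by_contra h
      rw [not_nonempty_iff_eq_empty, sdiff_eq_empty] at h
      rcases isPreirreducible_iff_isClosed_union_isClosed.1 hirr1.isPreirreducible R (⋃₀ C') hR hC'cl h
        with h | h
      · exact hne h
      · obtain ⟨c, hc, hsub⟩ := (isIrreducible_iff_sUnion_isClosed.1 hirr1)
          (hCfin.subset (sep_subset _ _) : C'.Finite).toFinset
          (fun c hc => hC c ((Set.Finite.mem_toFinset _).1 hc).1) (by simpa using h)
        exact ((Set.Finite.mem_toFinset _).1 hc).2 hsub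
    have hUlc : IsLocallyClosed U :=
      (hTcl Z1 (hT'.1 hZ1)).isLocallyClosed.inter (hR.union hC'cl).isOpen_compl.isLocallyClosed
    have hUZ : U ⊆ Z := fun x hx => hT'.2 ▸ ⟨Z1, hZ1, hx.1⟩
    have hZ'cl : IsClosed ((Z : Set X) \ U) := by
      have : (Z : Set X) \ U = R ∪ (Z1 ∩ ⋃₀ C') := by
        ext x
        constructor
        · rintro ⟨hxZ, hxU⟩
          by_contra hx
          simp only [mem_union, mem_inter_iff, not_or, not_and] at hx
          obtain ⟨s, hs, hxs⟩ := hT'.2 ▸ hxZ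
          by_cases hsZ : s = Z1
          · exact hxU ⟨hsZ ▸ hxs, fun h => h.elim hx.1 (hx.2 (hsZ ▸ hxs))⟩
          · exact hx.1 ⟨s, Finset.mem_erase.2 ⟨hsZ, hs⟩, hxs⟩
        · rintro (⟨s, hs, hxs⟩ | ⟨hx1, hx2⟩)
          · exact ⟨hT'.2 ▸ ⟨s, Finset.mem_of_mem_erase hs, hxs⟩,
              fun h => h.2 (.inl ⟨s, hs, hxs⟩)⟩
          · exact ⟨hT'.2 ▸ ⟨Z1, hZ1, hx1⟩, fun h => h.2 (.inr hx2)⟩
      rw [this]
      exact hR.union ((hTcl Z1 (hT'.1 hZ1)).inter hC'cl)
    let Z' : Closeds X := ⟨(Z : Set X) \ U, hZ'cl⟩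
    have hlt : Z' < Z := by
      refine lt_of_le_of_ne (fun x hx => hx.1) fun he => ?_
      obtain ⟨x, hx⟩ := hUne
      have : x ∈ (Z' : Set X) := by rw [he]; exact hUZ hx
      exact this.2 hx
    obtain ⟨S, hSfin, hSlc, hSeq, hSd, hSgood, hSC⟩ :=
      ih Z' hlt (insert (closure U) C) (hCfin.insert _)
        (by rintro c (rfl | hc); exacts [isClosed_closure, hC c hc])
    have hsZ' : ∀ s ∈ S, s ⊆ (Z : Set X) \ U := fun s hs =>
      (subset_sUnion_of_mem hs).trans hSeq.subset
    refine ⟨insert U S, hSfin.insert U, ?_, ?_, ?_, ?_, ?_⟩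
    · rintro s (rfl | hs); exacts [hUlc, hSlc s hs]
    · rw [sUnion_insert, hSeq]
      exact union_sdiff_cancel hUZ
    · refine hSd.insert fun s hs _ => Set.disjoint_left.2 fun x hxU hxs => (hsZ' s hs hxs).2 hxU
    · rintro s (rfl | hs) t (rfl | ht) h
      · exact subset_closure
      · obtain ⟨x, hxU, hxt⟩ := h
        exact ((closure_minimal (hsZ' t ht) hZ'cl hxt).2 hxU).elim
      · exact hSC s hs _ (mem_insert _ _) h
      · exact hSgood s hs t ht h
    · rintro s (rfl | hs) c hc h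
      · intro x hx
        by_contra hxc
        obtain ⟨y, hy, hyc⟩ := h
        have : ¬ Z1 ⊆ c := fun hsub => hxc (hsub hx.1)
        exact hy.2 (.inr ⟨c, ⟨hc, this⟩, hyc⟩)
      · exact hSC s hs c (mem_insert_of_mem _ hc) h

theorem exists_good_stratification [NoetherianSpace X] {n : ℕ} (P : Fin n → Set X)
    (hP : ∀ k, IsLocallyClosed (P k)) :
    ∃ (m : ℕ) (S : Fin m → Set X),
      (∀ i, IsLocallyClosed (S i)) ∧ (⋃ i, S i = univ) ∧ (∀ i j, i ≠ j → Disjoint (S i) (S j)) ∧
      (∀ i j, (S i ∩ closure (S j)).Nonempty → S i ⊆ closure (S j)) ∧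
      (∀ i k, (S i ∩ P k).Nonempty → S i ⊆ P k) := by
  obtain ⟨S, hSfin, hSlc, hSeq, hSd, hSgood, hSC⟩ := exists_good_partition (⊤ : Closeds X)
    (range (partClosed P)) (finite_range _) (by rintro _ ⟨l, rfl⟩; exact isClosed_partClosed P hP l)
  obtain ⟨m, f, hf⟩ := hSfin.fin_embedding
  have hmem : ∀ i, f i ∈ S := fun i => hf ▸ mem_range_self i
  refine ⟨m, f, fun i => hSlc _ (hmem i), ?_, fun i j hij => hSd (hmem i) (hmem j) (f.injective.ne hij),
    fun i j h => hSgood _ (hmem i) _ (hmem j) h, fun i k h => ?_⟩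
  · rw [← sUnion_range, hf, hSeq]
    rfl
  · obtain ⟨x, hx, hxk⟩ := h
    intro y hy
    have h1 : f i ⊆ closure (P k) :=
      hSC _ (hmem i) _ ⟨.inl k, rfl⟩ ⟨x, hx, subset_closure hxk⟩
    by_contra hyk
    have h2 : f i ⊆ closure (P k) \ P k :=
      hSC _ (hmem i) _ ⟨.inr k, rfl⟩ ⟨y, hy, h1 hy, hyk⟩
    exact (h2 hx).2 hxk

end Groth.Agent.PtTop50
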