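import Mathlib.Topology.Category.TopCommRingCat
import Mathlib.CategoryTheory.Limits.Preserves.Basic
import Mathlib.Topology.Category.TopCat.Limits.Basic
import Mathlib.Algebra.Category.Ring.Limits
import Mathlib.Algebra.Category.Ring.Colimits

/-! Limits and colimits of topological commutative rings. -/

set_option autoImplicit false
set_option linter.unusedVariables false
set_option linter.unusedSectionVars false
set_option linter.style.haveILetI false

universe u

open CategoryTheory CategoryTheory.Limits TopologicalSpace

namespace Groth.Agent.PtTop50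

/-- The ring topology induced along a ring homomorphism. -/
theorem isTopologicalRing_induced {R S : Type u} [CommRing R] [CommRing S] [TopologicalSpace S]
    [IsTopologicalRing S] (f : R →+* S) :
    @IsTopologicalRing R (induced f inferInstance) _ := by
  letI : TopologicalSpace R := induced f inferInstance
  have hf : Continuous f := continuous_induced_dom
  haveI hadd : ContinuousAdd R := ⟨continuous_induced_rng.2 (by
    simp only [Function.comp_def, map_add]; fun_prop)⟩
  haveI hmul : ContinuousMul R := ⟨continuous_induced_rng.2 (by
    simp only [Function.comp_def, map_mul]; fun_prop)⟩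
  haveI hneg : ContinuousNeg R := ⟨continuous_induced_rng.2 (by
    simp only [Function.comp_def, map_neg]; fun_prop)⟩
  exact { }

variable {J : Type u} [SmallCategory J] (F : J ⥤ TopCommRingCat.{u})

/-- The limit of the underlying commutative rings. -/
noncomputable abbrev ringLimit : Cone (F ⋙ forget₂ TopCommRingCat.{u} CommRingCat.{u}) :=
  CommRingCat.limitCone _

/-- The projection ring homomorphisms. -/
noncomputable def ringProj (j : J) : (ringLimit F).pt →+* (F.obj j : Type u) :=
  ((ringLimit F).π.app j).hom

/-- The limit topology. -/
@[instance_reducible]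
noncomputable def limitTop : TopologicalSpace (ringLimit F).pt :=
  ⨅ j, induced (ringProj F j) (F.obj j).isTopologicalSpace

theorem isTopologicalRing_limitTop : @IsTopologicalRing (ringLimit F).pt (limitTop F) _ := by
  letI := limitTop F
  haveI hadd : ContinuousAdd (ringLimit F).pt :=
    continuousAdd_iInf fun j => (isTopologicalRing_induced (ringProj F j)).toContinuousAdd
  haveI hmul : ContinuousMul (ringLimit F).pt :=
    continuousMul_iInf fun j => (isTopologicalRing_induced (ringProj F j)).toContinuousMul
  haveI hneg : ContinuousNeg (ringLimit F).pt :=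
    continuousNeg_iInf fun j => (isTopologicalRing_induced (ringProj F j)).toContinuousNeg
  exact { }

/-- The limit topological ring. -/
noncomputable def limitPt : TopCommRingCat.{u} :=
  @TopCommRingCat.of (ringLimit F).pt _ (limitTop F) (isTopologicalRing_limitTop F)

theorem ringProj_w {i j : J} (g : i ⟶ j) : (F.map g).1.comp (ringProj F i) = ringProj F j :=
  congrArg CommRingCat.Hom.hom ((ringLimit F).w g)

/-- The limit cone. -/
noncomputable def limitCone : Cone F where
  pt := limitPt F
  π :=
    { app := fun j => ⟨ringProj F j, continuous_iInf_dom (i := j) continuous_induced_dom⟩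
      naturality := fun i j g => Subtype.ext (ringProj_w F g).symm }

/-- The limit cone is a limit. -/
noncomputable def limitConeIsLimit : IsLimit (limitCone F) where
  lift s := ⟨((CommRingCat.limitConeIsLimit _).lift
      ((forget₂ TopCommRingCat.{u} CommRingCat.{u}).mapCone s)).hom,
    continuous_iInf_rng.2 fun j => continuous_induced_rng.2 (by
      have h := congrArg CommRingCat.Hom.hom ((CommRingCat.limitConeIsLimit _).fac
        ((forget₂ TopCommRingCat.{u} CommRingCat.{u}).mapCone s) j)
      have h2 : ∀ x, ringProj F j (((CommRingCat.limitConeIsLimit _).lift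
          ((forget₂ TopCommRingCat.{u} CommRingCat.{u}).mapCone s)).hom x) = (s.π.app j).1 x :=
        fun x => DFunLike.congr_fun h x
      exact (s.π.app j).2.congr fun x => (h2 x).symm)⟩
  fac s j := Subtype.ext (congrArg CommRingCat.Hom.hom ((CommRingCat.limitConeIsLimit _).fac
      ((forget₂ TopCommRingCat.{u} CommRingCat.{u}).mapCone s) j))
  uniq s m hm := Subtype.ext (congrArg CommRingCat.Hom.hom ((CommRingCat.limitConeIsLimit _).uniq
      ((forget₂ TopCommRingCat.{u} CommRingCat.{u}).mapCone s) (CommRingCat.ofHom m.1)
      fun j => congrArg (fun (k : s.pt ⟶ F.obj j) => CommRingCat.ofHom k.1) (hm j)))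

theorem preservesLimit_commRing : PreservesLimit F (forget₂ TopCommRingCat.{u} CommRingCat.{u}) :=
  preservesLimit_of_preserves_limit_cone (limitConeIsLimit F)
    (IsLimit.ofIsoLimit (CommRingCat.limitConeIsLimit _) (Cone.ext (Iso.refl _) fun _ => rfl))

theorem preservesLimit_top : PreservesLimit F (forget₂ TopCommRingCat.{u} TopCat.{u}) := by
  refine preservesLimit_of_preserves_limit_cone (limitConeIsLimit F)
    ((TopCat.nonempty_isLimit_iff_eq_induced _ ?_).2 rfl).some
  exact IsLimit.ofIsoLimit (isLimitOfPreserves (forget CommRingCat.{u})
    (CommRingCat.limitConeIsLimit (F ⋙ forget₂ TopCommRingCat.{u} CommRingCat.{u})))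
    (Cone.ext (Iso.refl _) fun _ => rfl)

theorem hasLimits_topCommRingCat : HasLimits TopCommRingCat.{u} :=
  ⟨fun J _ => ⟨fun F => ⟨⟨⟨limitCone F, limitConeIsLimit F⟩⟩⟩⟩⟩

theorem preservesLimits_commRing : PreservesLimits (forget₂ TopCommRingCat.{u} CommRingCat.{u}) :=
  ⟨fun {J} _ => ⟨fun {F} => preservesLimit_commRing F⟩⟩

theorem preservesLimits_top : PreservesLimits (forget₂ TopCommRingCat.{u} TopCat.{u}) :=
  ⟨fun {J} _ => ⟨fun {F} => preservesLimit_top F⟩⟩

/-- The colimit of the underlying commutative rings. -/
noncomputable abbrev ringColimit : Cocone (F ⋙ forget₂ TopCommRingCat.{u} CommRingCat.{u}) :=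
  colimit.cocone _

/-- The coprojection ring homomorphisms. -/
noncomputable def ringInj (j : J) : (F.obj j : Type u) →+* (ringColimit F).pt :=
  ((ringColimit F).ι.app j).hom

/-- The colimit topology: the finest ring topology making all coprojections continuous. -/
noncomputable def colimitTop : RingTopology (ringColimit F).pt :=
  sInf {b | ∀ j, TopologicalSpace.coinduced (ringInj F j) (F.obj j).isTopologicalSpace ≤ b.toTopologicalSpace}

theorem continuous_ringInj (j : J) :
    @Continuous _ _ (F.obj j).isTopologicalSpace (colimitTop F).toTopologicalSpace (ringInj F j) :=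
  continuous_sInf_rng.2 <| Set.forall_mem_image.2 fun b hb => continuous_iff_coinduced_le.2 (hb j)

/-- The colimit topological ring. -/
noncomputable def colimitPt : TopCommRingCat.{u} :=
  @TopCommRingCat.of (ringColimit F).pt _ (colimitTop F).toTopologicalSpace (colimitTop F).toIsTopologicalRing

theorem ringInj_w {i j : J} (g : i ⟶ j) : (ringInj F j).comp (F.map g).1 = ringInj F i :=
  congrArg CommRingCat.Hom.hom ((ringColimit F).w g)

/-- The colimit cocone. -/
noncomputable def colimitCocone : Cocone F where
  pt := colimitPt F
  ι :=
    { app := fun j => ⟨ringInj F j, continuous_ringInj F j⟩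
      naturality := fun i j g => Subtype.ext (ringInj_w F g) }

/-- The universal map, as a ring homomorphism. -/
noncomputable def descHom (s : Cocone F) : (ringColimit F).pt →+* (s.pt : Type u) :=
  ((colimit.isColimit _).desc ((forget₂ TopCommRingCat.{u} CommRingCat.{u}).mapCocone s)).hom

theorem descHom_comp (s : Cocone F) (j : J) : (descHom F s).comp (ringInj F j) = (s.ι.app j).1 :=
  congrArg CommRingCat.Hom.hom ((colimit.isColimit _).fac
    ((forget₂ TopCommRingCat.{u} CommRingCat.{u}).mapCocone s) j)

theorem continuous_descHom (s : Cocone F) :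
    @Continuous _ _ (colimitTop F).toTopologicalSpace s.pt.isTopologicalSpace (descHom F s) := by
  let b : RingTopology (ringColimit F).pt :=
    { toTopologicalSpace := induced (descHom F s) s.pt.isTopologicalSpace
      toIsTopologicalRing := isTopologicalRing_induced (descHom F s) }
  refine continuous_iff_le_induced.2 ?_
  refine (sInf_le (a := b) ?_ : colimitTop F ≤ b)
  intro j
  refine coinduced_le_iff_le_induced.2 ?_
  show _ ≤ induced (ringInj F j) (induced (descHom F s) s.pt.isTopologicalSpace)
  rw [induced_compose, show descHom F s ∘ ringInj F j = (s.ι.app j).1 from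
    congrArg DFunLike.coe (descHom_comp F s j)]
  exact (s.ι.app j).2.le_induced

/-- The colimit cocone is a colimit. -/
noncomputable def colimitCoconeIsColimit : IsColimit (colimitCocone F) where
  desc s := ⟨descHom F s, continuous_descHom F s⟩
  fac s j := Subtype.ext (descHom_comp F s j)
  uniq s m hm := Subtype.ext (congrArg CommRingCat.Hom.hom ((colimit.isColimit _).uniq
      ((forget₂ TopCommRingCat.{u} CommRingCat.{u}).mapCocone s) (CommRingCat.ofHom m.1)
      fun j => congrArg (fun (k : F.obj j ⟶ s.pt) => CommRingCat.ofHom k.1) (hm j)))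

theorem preservesColimit_commRing :
    PreservesColimit F (forget₂ TopCommRingCat.{u} CommRingCat.{u}) :=
  preservesColimit_of_preserves_colimit_cocone (colimitCoconeIsColimit F)
    (IsColimit.ofIsoColimit (colimit.isColimit _) (Cocone.ext (Iso.refl _) fun _ => rfl))

theorem hasColimits_topCommRingCat : HasColimits TopCommRingCat.{u} :=
  ⟨fun J _ => ⟨fun F => ⟨⟨⟨colimitCocone F, colimitCoconeIsColimit F⟩⟩⟩⟩⟩

theorem preservesColimits_commRing :
    PreservesColimits (forget₂ TopCommRingCat.{u} CommRingCat.{u}) :=
  ⟨fun {J} _ => ⟨fun {F} => preservesColimit_commRing F⟩⟩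

end Groth.Agent.PtTop50
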